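import Mathlib

set_option autoImplicit false

/-!
A verified checker for Todd–Coxeter style certificates ("static coset enumeration").

Names are natural numbers `< N'`; names `< N` are the final cosets.  Every name `x ≠ 0` is defined
as `gen (dl x) • (its definition parent)`.  Facts are attached to slots `(letter, name)` and to
names (coincidences), each with a rank; every fact is justified by facts of smaller rank.
-/

namespace Cfsg.Agent.Lib.Helper56.TC

/-- Value of a word (a list of letters) under an assignment of the letters. -/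
def ew {G : Type*} [Monoid G] (g : ℕ → G) (w : List ℕ) : G := (w.map g).prod

theorem ew_nil {G : Type*} [Monoid G] (g : ℕ → G) : ew g [] = 1 := rfl

theorem ew_cons {G : Type*} [Monoid G] (g : ℕ → G) (a : ℕ) (w : List ℕ) :
    ew g (a :: w) = g a * ew g w := by
  simp [ew]

theorem ew_append {G : Type*} [Monoid G] (g : ℕ → G) (u w : List ℕ) :
    ew g (u ++ w) = ew g u * ew g w := by
  simp [ew]

theorem ew_congr {G : Type*} [Monoid G] (g g' : ℕ → G) (w : List ℕ) (h : ∀ a ∈ w, g a = g' a) :
    ew g w = ew g' w := by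
  induction w with
  | nil => rfl
  | cons a w ih =>
    rw [ew_cons, ew_cons, h a (List.mem_cons_self), ih (fun b hb => h b (List.mem_cons_of_mem _ hb))]

theorem ew_take_drop {G : Type*} [Group G] (g : ℕ → G) (w : List ℕ) (p : ℕ) (h : ew g w = 1) :
    ew g (w.drop p) * ew g (w.take p) = 1 := by
  have h2 : ew g (w.take p) * ew g (w.drop p) = 1 := by
    rw [← ew_append, List.take_append_drop]; exact h
  have h3 : ew g (w.drop p) = (ew g (w.take p))⁻¹ := eq_inv_of_mul_eq_one_right h2
  rw [h3]; simp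

/-- Apply `f` to `n`, evaluating `n` first (for the kernel). -/
noncomputable def forceN {α : Type} (f : ℕ → α) (n : ℕ) : α :=
  Nat.rec (motive := fun _ => α) (f Nat.zero) (fun m _ => f (Nat.succ m)) n

theorem forceN_eq {α : Type} (f : ℕ → α) (n : ℕ) : forceN f n = f n := by
  cases n <;> rfl

/-- Count the `i < n` with `p i`, with an accumulator (for the kernel). -/
noncomputable def countAcc (p : ℕ → Bool) (n : ℕ) : ℕ → ℕ :=
  Nat.rec (motive := fun _ => ℕ → ℕ) (fun acc => acc)
    (fun i ih acc => Bool.rec (motive := fun _ => ℕ) (ih acc) (forceN ih (Nat.succ acc)) (p i)) n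

/-- The number of `i < n` with `p i`. -/
noncomputable def countLt (p : ℕ → Bool) (n : ℕ) : ℕ := countAcc p n 0

theorem countAcc_eq (p : ℕ → Bool) (n acc : ℕ) :
    countAcc p n acc = acc + ((Finset.range n).filter (fun i => p i = true)).card := by
  induction n generalizing acc with
  | zero => simp [countAcc]
  | succ n ih =>
    show Bool.rec (motive := fun _ => ℕ) (countAcc p n acc) (forceN (countAcc p n) (Nat.succ acc))
      (p n) = _
    rw [Finset.range_add_one, Finset.filter_insert]
    cases hp : p n with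
    | false =>
      simp only [Bool.false_eq_true, if_false]
      exact ih acc
    | true =>
      simp only [if_true]
      rw [forceN_eq, ih, Finset.card_insert_of_notMem (by simp)]
      omega

theorem ncard_fin_eq_countLt (n : ℕ) (p : ℕ → Bool) :
    Set.ncard {v : Fin n | p v = true} = countLt p n := by
  unfold countLt
  rw [countAcc_eq, zero_add]
  have h1 : {v : Fin n | p v = true} =
      ((Finset.univ.filter (fun v : Fin n => p v = true) : Finset (Fin n)) : Set (Fin n)) := by
    ext v; simp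
  rw [h1, Set.ncard_coe_finset]
  have h2 : ((Finset.univ.filter (fun v : Fin n => p v = true)).map Fin.valEmbedding) =
      (Finset.range n).filter (fun i => p i = true) := by
    ext i
    simp only [Finset.mem_map, Finset.mem_filter, Finset.mem_univ, true_and, Fin.valEmbedding_apply,
      Finset.mem_range]
    constructor
    · rintro ⟨v, hv, rfl⟩; exact ⟨v.2, hv⟩
    · rintro ⟨hi, hp⟩; exact ⟨⟨i, hi⟩, hp, rfl⟩
  rw [← h2, Finset.card_map]

/-- The data of a certificate. -/
structure Tabs where
  K : ℕ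
  N : ℕ
  N' : ℕ
  INF : ℕ
  fuel : ℕ
  inv : ℕ → ℕ
  tg : ℕ → ℕ → ℕ
  rk : ℕ → ℕ → ℕ
  jc : ℕ → ℕ → ℕ
  dl : ℕ → ℕ
  dd : ℕ → ℕ
  mp : ℕ → ℕ
  mt : ℕ → ℕ
  qj : ℕ → ℕ
  tb : ℕ → ℕ → ℕ
  rels1 : List (List ℕ)
  subs : List (List ℕ)
  rx : List (List ℕ)
  RB : ℕ
  tpl : ℕ → ℕ
  tdep : ℕ → ℕ
  ol : ℕ → ℕ
  oc : ℕ → ℕ
  op : ℕ → ℕ
  odep : ℕ → ℕ
  orep : ℕ → ℕ

namespace Tabs

variable (T : Tabs)

/-- Number of letters including the virtual ones (one per subgroup word). -/
def KX : ℕ := T.K + T.subs.length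

/-- The relator attached to the `j`-th subgroup word. -/
def subRels : ℕ → List (List ℕ) → List (List ℕ)
  | _, [] => []
  | j, s :: rest => (s ++ [j]) :: subRels (j + 1) rest

/-- All relators of the extended system. -/
def relsX : List (List ℕ) := T.rels1 ++ subRels T.K T.subs

/-! ### The executable checker (written with recursors, for the kernel) -/

/-- Canonical name at time `ρ`. -/
noncomputable def canon (ρ : ℕ) (f : ℕ) : ℕ → ℕ :=
  Nat.rec (motive := fun _ => ℕ → ℕ) (fun x => x)
    (fun _ ih x => Bool.rec (motive := fun _ => ℕ) (ih (T.mp x)) x (Nat.ble ρ (T.mt x))) f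

theorem canon_zero (ρ x : ℕ) : T.canon ρ 0 x = x := rfl

theorem canon_succ (ρ f x : ℕ) :
    T.canon ρ (f + 1) x = if ρ ≤ T.mt x then x else T.canon ρ f (T.mp x) := by
  show Bool.rec (motive := fun _ => ℕ) (T.canon ρ f (T.mp x)) x (Nat.ble ρ (T.mt x)) = _
  by_cases h : ρ ≤ T.mt x
  · rw [if_pos h, Nat.ble_eq_true_of_le h]
  · rw [if_neg h]
    have : Nat.ble ρ (T.mt x) = false := by
      rw [← Bool.not_eq_true]; intro h'; exact h (Nat.le_of_ble_eq_true h')
    rw [this]

/-- One step along a fact known before time `ρ`. -/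
noncomputable def step (ρ l x : ℕ) : Option ℕ :=
  forceN (fun c => Bool.rec (motive := fun _ => Option ℕ)
      (forceN (fun t => some t) (T.tg l c)) none (Nat.ble ρ (T.rk l c)))
    (T.canon ρ T.fuel x)

theorem step_eq (ρ l x : ℕ) :
    T.step ρ l x = if ρ ≤ T.rk l (T.canon ρ T.fuel x) then none
      else some (T.tg l (T.canon ρ T.fuel x)) := by
  unfold step
  rw [forceN_eq, forceN_eq]
  by_cases h : ρ ≤ T.rk l (T.canon ρ T.fuel x)
  · rw [if_pos h, Nat.ble_eq_true_of_le h]
  · rw [if_neg h]
    have : Nat.ble ρ (T.rk l (T.canon ρ T.fuel x)) = false := by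
      rw [← Bool.not_eq_true]; intro h'; exact h (Nat.le_of_ble_eq_true h')
    rw [this]

/-- Bind for options, with recursors. -/
noncomputable def obind (o : Option ℕ) (f : ℕ → Option ℕ) : Option ℕ :=
  Option.rec (motive := fun _ => Option ℕ) none f o

theorem obind_none (f : ℕ → Option ℕ) : obind none f = none := rfl
theorem obind_some (z : ℕ) (f : ℕ → Option ℕ) : obind (some z) f = f z := rfl

/-- Follow a word (last letter first) starting from an optional name. -/
noncomputable def followK (ρ : ℕ) (w : List ℕ) (y : Option ℕ) : Option ℕ :=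
  List.rec (motive := fun _ => Option ℕ) y (fun a _ ih => obind ih (T.step ρ a)) w

theorem followK_nil (ρ : ℕ) (y : Option ℕ) : T.followK ρ [] y = y := rfl
theorem followK_cons (ρ a : ℕ) (w : List ℕ) (y : Option ℕ) :
    T.followK ρ (a :: w) y = obind (T.followK ρ w y) (T.step ρ a) := rfl

/-- Follow the first `p` letters of a word. -/
noncomputable def followTake (ρ : ℕ) (w : List ℕ) (y : Option ℕ) : ℕ → Option ℕ :=
  List.rec (motive := fun _ => ℕ → Option ℕ) (fun _ => y)
    (fun a _ ih p => Nat.rec (motive := fun _ => Option ℕ) y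
      (fun p' _ => obind (ih p') (T.step ρ a)) p) w

theorem followTake_eq (ρ : ℕ) (w : List ℕ) (y : Option ℕ) (p : ℕ) :
    T.followTake ρ w y p = T.followK ρ (w.take p) y := by
  induction w generalizing p with
  | nil => simp [followTake, followK]
  | cons a w ih =>
    cases p with
    | zero => rfl
    | succ p =>
      show obind (T.followTake ρ w y p) (T.step ρ a) = _
      rw [ih p]; rfl

/-- Follow a word without its first `n` letters. -/
noncomputable def followDrop (ρ : ℕ) (w : List ℕ) (y : Option ℕ) : ℕ → Option ℕ :=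
  List.rec (motive := fun _ => ℕ → Option ℕ) (fun _ => y)
    (fun a _ ih n => Nat.rec (motive := fun _ => Option ℕ) (obind (ih 0) (T.step ρ a))
      (fun n' _ => ih n') n) w

theorem followDrop_eq (ρ : ℕ) (w : List ℕ) (y : Option ℕ) (n : ℕ) :
    T.followDrop ρ w y n = T.followK ρ (w.drop n) y := by
  induction w generalizing n with
  | nil => simp [followDrop, followK]
  | cons a w ih =>
    cases n with
    | zero =>
      show obind (T.followDrop ρ w y 0) (T.step ρ a) = _
      rw [ih 0]; rfl
    | succ n =>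
      show T.followDrop ρ w y n = _
      rw [ih n]; rfl

/-- The `n`-th element of a list (default `d`), with recursors. -/
noncomputable def nth (d : ℕ) (w : List ℕ) : ℕ → ℕ :=
  List.rec (motive := fun _ => ℕ → ℕ) (fun _ => d)
    (fun a _ ih n => Nat.rec (motive := fun _ => ℕ) a (fun n' _ => ih n') n) w

theorem nth_eq (d : ℕ) (w : List ℕ) (n : ℕ) : nth d w n = w.getD n d := by
  induction w generalizing n with
  | nil => simp [nth]
  | cons a w ih =>
    cases n with
    | zero => rfl
    | succ n =>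
      show nth d w n = _
      rw [ih n]; simp

/-- The `n`-th element of a list of lists, with recursors. -/
noncomputable def nthL (w : List (List ℕ)) : ℕ → List ℕ :=
  List.rec (motive := fun _ => ℕ → List ℕ) (fun _ => [])
    (fun a _ ih n => Nat.rec (motive := fun _ => List ℕ) a (fun n' _ => ih n') n) w

theorem nthL_eq (w : List (List ℕ)) (n : ℕ) : nthL w n = w.getD n [] := by
  induction w generalizing n with
  | nil => simp [nthL]
  | cons a w ih =>
    cases n with
    | zero => rfl
    | succ n =>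
      show nthL w n = _
      rw [ih n]; simp

/-- `nthL` with its index forced to a literal first (so that the kernel caches the result). -/
noncomputable def nthLf (w : List (List ℕ)) (n : ℕ) : List ℕ :=
  Nat.rec (motive := fun _ => List ℕ) (nthL w 0) (fun m _ => nthL w (Nat.succ m)) n

theorem nthLf_eq (w : List (List ℕ)) (n : ℕ) : nthLf w n = w.getD n [] := by
  cases n with
  | zero => exact nthL_eq w 0
  | succ n => exact nthL_eq w (n + 1)

/-- Result of a scan along the word with code `wc`, starting at `y`, at time `ρ`: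
for `wc < K` the word is `[wc, inv wc]`, otherwise a rotation of a relator.
`skip = 1` leaves out the first letter of the (rotated) word. -/
noncomputable def scan (ρ wc skip y : ℕ) : Option ℕ :=
  Bool.rec (motive := fun _ => Option ℕ)
    (forceN (fun r => (fun rel p =>
        T.followDrop ρ rel (T.followTake ρ rel (some y) p) (Nat.add p skip))
      (nthL T.rx r) (Nat.mod (Nat.sub wc T.K) T.RB)) (Nat.div (Nat.sub wc T.K) T.RB))
    (Nat.rec (motive := fun _ => Option ℕ) (obind (T.step ρ (T.inv wc) y) (T.step ρ wc))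
      (fun _ _ => T.step ρ (T.inv wc) y) skip)
    (Nat.blt wc T.K)

/-- First letter of the word with code `wc`. -/
noncomputable def scanHead (wc : ℕ) : ℕ :=
  Bool.rec (motive := fun _ => ℕ)
    (forceN (fun r => nth T.KX (nthL T.rx r) (Nat.mod (Nat.sub wc T.K) T.RB))
      (Nat.div (Nat.sub wc T.K) T.RB))
    wc (Nat.blt wc T.K)

/-- Compare the canonical forms of an optional name and a name. -/
noncomputable def sameC (ρ : ℕ) (o : Option ℕ) (x : ℕ) : Bool :=
  Option.rec (motive := fun _ => Bool) false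
    (fun z => Nat.beq (T.canon ρ T.fuel z) (T.canon ρ T.fuel x)) o

/-- Check of the justification of the slot `(l, x)`; `j`, `r`, `y` are its code, rank and target. -/
noncomputable def chkSlotJ (x l j r y : ℕ) : Bool :=
  Nat.rec (motive := fun _ => Bool) (Nat.beq r T.INF)
    (fun j1 _ => Nat.rec (motive := fun _ => Bool)
      -- 1: definition, downwards
      (Nat.blt y T.N' && (Nat.blt 0 y && (Nat.beq (T.dl y) l && (Nat.beq (T.tg (T.inv l) y) x &&
        (Nat.blt (T.dd x) (T.dd y) && Nat.blt l T.K)))))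
      (fun j2 _ => Nat.rec (motive := fun _ => Bool)
        -- 2: definition, upwards
        (Nat.blt y T.N' && (Nat.blt 0 x && (Nat.beq l (T.inv (T.dl x)) && (Nat.blt (T.dl x) T.K &&
          Nat.blt (T.dd y) (T.dd x)))))
        (fun j3 _ => Nat.rec (motive := fun _ => Bool)
          -- 3: virtual letter at the root
          (Nat.beq x 0 && (Nat.beq y 0 && Nat.ble T.K l))
          -- 4 + wc: scan
          (fun wc _ => Nat.blt y T.N' && (Nat.beq (T.scanHead wc) l &&
            T.sameC r (T.scan r wc 1 y) x)) j3) j2) j1) j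

theorem chkSlotJ_zero (x l r y : ℕ) : T.chkSlotJ x l 0 r y = Nat.beq r T.INF := rfl

theorem chkSlotJ_one (x l r y : ℕ) : T.chkSlotJ x l 1 r y =
    (Nat.blt y T.N' && (Nat.blt 0 y && (Nat.beq (T.dl y) l && (Nat.beq (T.tg (T.inv l) y) x &&
        (Nat.blt (T.dd x) (T.dd y) && Nat.blt l T.K))))) := rfl

theorem chkSlotJ_two (x l r y : ℕ) : T.chkSlotJ x l 2 r y =
    (Nat.blt y T.N' && (Nat.blt 0 x && (Nat.beq l (T.inv (T.dl x)) && (Nat.blt (T.dl x) T.K &&
          Nat.blt (T.dd y) (T.dd x))))) := rfl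

theorem chkSlotJ_three (x l r y : ℕ) : T.chkSlotJ x l 3 r y =
    (Nat.beq x 0 && (Nat.beq y 0 && Nat.ble T.K l)) := rfl

theorem chkSlotJ_scan (x l wc r y : ℕ) : T.chkSlotJ x l (wc + 4) r y =
    (Nat.blt y T.N' && (Nat.beq (T.scanHead wc) l && T.sameC r (T.scan r wc 1 y) x)) := rfl

/-- Check of the slot `(l, x)`. -/
noncomputable def chkSlot (x l : ℕ) : Bool :=
  forceN (fun r => forceN (fun y => T.chkSlotJ x l (T.jc l x) r y) (T.tg l x)) (T.rk l x)

theorem chkSlot_eq (x l : ℕ) :
    T.chkSlot x l = T.chkSlotJ x l (T.jc l x) (T.rk l x) (T.tg l x) := by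
  unfold chkSlot
  rw [forceN_eq, forceN_eq]

/-- Check of the coincidence fact of the name `x`; `c`, `τ`, `p` are its code, rank and parent. -/
noncomputable def chkQJ (x c τ p : ℕ) : Bool :=
  Nat.rec (motive := fun _ => Bool) (Nat.beq τ T.INF)
    (fun c' _ => Nat.blt p T.N' &&
      Nat.rec (motive := fun _ => Bool)
        (T.sameC τ (T.scan τ (Nat.div c' 2) 0 x) p)
        (fun _ _ => T.sameC τ (T.scan τ (Nat.div c' 2) 0 p) x)
        (Nat.mod c' 2)) c

theorem chkQJ_zero (x τ p : ℕ) : T.chkQJ x 0 τ p = Nat.beq τ T.INF := rfl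

theorem chkQJ_succ (x c' τ p : ℕ) : T.chkQJ x (c' + 1) τ p = (Nat.blt p T.N' &&
      Nat.rec (motive := fun _ => Bool)
        (T.sameC τ (T.scan τ (Nat.div c' 2) 0 x) p)
        (fun _ _ => T.sameC τ (T.scan τ (Nat.div c' 2) 0 p) x)
        (Nat.mod c' 2)) := rfl

/-- Check of the name `x`. -/
noncomputable def chkQ (x : ℕ) : Bool :=
  forceN (fun τ => forceN (fun p => T.chkQJ x (T.qj x) τ p) (T.mp x)) (T.mt x)

theorem chkQ_eq (x : ℕ) : T.chkQ x = T.chkQJ x (T.qj x) (T.mt x) (T.mp x) := by
  unfold chkQ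
  rw [forceN_eq, forceN_eq]

/-- Conjunction of `p i` for `i < n`. -/
noncomputable def allLt (p : ℕ → Bool) (n : ℕ) : Bool :=
  Nat.rec (motive := fun _ => Bool) true (fun i ih => p i && ih) n

theorem allLt_iff (p : ℕ → Bool) (n : ℕ) : allLt p n = true ↔ ∀ i < n, p i = true := by
  induction n with
  | zero => simp [allLt]
  | succ n ih =>
    show (p n && allLt p n) = true ↔ _
    rw [Bool.and_eq_true, ih]
    constructor
    · rintro ⟨h1, h2⟩ i hi
      rcases Nat.lt_succ_iff_lt_or_eq.mp hi with h | rfl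
      · exact h2 i h
      · exact h1
    · intro h
      exact ⟨h n (Nat.lt_succ_self n), fun i hi => h i (Nat.lt_succ_of_lt hi)⟩

/-- Conjunction of `p (lo + i)` for `i < n`. -/
noncomputable def allRange (p : ℕ → Bool) (lo n : ℕ) : Bool :=
  allLt (fun i => p (Nat.add lo i)) n

theorem allRange_iff (p : ℕ → Bool) (lo n : ℕ) :
    allRange p lo n = true ↔ ∀ x, lo ≤ x → x < lo + n → p x = true := by
  unfold allRange
  rw [allLt_iff]
  constructor
  · intro h x h1 h2
    have := h (x - lo) (by omega)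
    have e : Nat.add lo (x - lo) = x := by show lo + (x - lo) = x; omega
    rwa [e] at this
  · intro h i hi
    exact h (lo + i) (by omega) (by omega)

/-- All checks attached to the name `x`. -/
noncomputable def chkName (x : ℕ) : Bool :=
  allLt (fun l => T.chkSlot x l) T.KX && T.chkQ x

/-- The final check of the slot `(l, v)` of a final coset. -/
noncomputable def chkFin (v l : ℕ) : Bool :=
  Nat.blt (T.rk l v) T.INF && (Nat.beq (T.canon T.INF T.fuel (T.tg l v)) (T.tb l v) &&
    Nat.blt (T.tb l v) T.N)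

/-- The final checks of a final coset. -/
noncomputable def chkFinName (v : ℕ) : Bool := allLt (fun l => T.chkFin v l) T.K


/-! ### Semantics -/

theorem blt_true {a b : ℕ} (h : Nat.blt a b = true) : a < b := by
  rw [Nat.blt_eq] at h; exact h

theorem beq_true {a b : ℕ} (h : Nat.beq a b = true) : a = b := Nat.eq_of_beq_eq_true h

theorem ble_true {a b : ℕ} (h : Nat.ble a b = true) : a ≤ b := Nat.le_of_ble_eq_true h

theorem subRels_mem (k : ℕ) (l : List (List ℕ)) (w : List ℕ) (h : w ∈ subRels k l) :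
    ∃ i, i < l.length ∧ w = l.getD i [] ++ [k + i] := by
  induction l generalizing k with
  | nil => simp [subRels] at h
  | cons s rest ih =>
    simp only [subRels, List.mem_cons] at h
    rcases h with rfl | h
    · exact ⟨0, by simp, by simp⟩
    · obtain ⟨i, hi, hw⟩ := ih (k + 1) h
      refine ⟨i + 1, by simp; omega, ?_⟩
      rw [hw]
      simp
      omega

section sem

variable {G : Type*} [Group G] (H : Subgroup G) (g : ℕ → G)

/-- The letters extended by the virtual ones. -/
noncomputable def gX (l : ℕ) : G :=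
  if l < T.K then g l else (ew g (T.subs.getD (l - T.K) []))⁻¹

/-- Definition parent of a name. -/
def dpar (x : ℕ) : ℕ := T.tg (T.inv (T.dl x)) x

/-- The coset attached to a name. -/
noncomputable def val : ℕ → G ⧸ H :=
  WellFounded.fix (measure T.dd).wf (fun x ih =>
    if h : 0 < x ∧ T.dd (T.dpar x) < T.dd x then g (T.dl x) • ih (T.dpar x) h.2
    else ((1 : G) : G ⧸ H))

theorem val_zero : T.val H g 0 = ((1 : G) : G ⧸ H) := by
  unfold val
  rw [WellFounded.fix_eq]
  simp

theorem val_pos (x : ℕ) (h1 : 0 < x) (h2 : T.dd (T.dpar x) < T.dd x) :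
    T.val H g x = g (T.dl x) • T.val H g (T.dpar x) := by
  unfold val
  rw [WellFounded.fix_eq]
  rw [dif_pos ⟨h1, h2⟩]

/-- The hypotheses on the group side. -/
structure Sem : Prop where
  hNN : T.N ≤ T.N'
  hinvK : ∀ l < T.K, T.inv l < T.K
  hinv : ∀ l < T.K, g (T.inv l) = (g l)⁻¹
  hsubH : ∀ s ∈ T.subs, ew g s ∈ H
  hsubK : ∀ s ∈ T.subs, ∀ a ∈ s, a < T.K
  hrel : ∀ w ∈ T.rels1, ew g w = 1
  hrelK : ∀ w ∈ T.rels1, ∀ a ∈ w, a < T.K
  hrx : T.rx = T.relsX
  hchk : ∀ x < T.N', T.chkName x = true
  hfin : ∀ v < T.N, T.chkFinName v = true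

variable {T H g}

theorem Sem.gX_real (_hS : T.Sem H g) (l : ℕ) (hl : l < T.K) : T.gX g l = g l := by
  unfold gX; rw [if_pos hl]

theorem Sem.gX_inv (hS : T.Sem H g) (l : ℕ) (hl : l < T.K) : T.gX g (T.inv l) = (T.gX g l)⁻¹ := by
  rw [hS.gX_real l hl, hS.gX_real _ (hS.hinvK l hl), hS.hinv l hl]

theorem Sem.gX_virt (hS : T.Sem H g) (l : ℕ) (h1 : T.K ≤ l) (h2 : l < T.KX) : T.gX g l ∈ H := by
  unfold gX
  rw [if_neg (by omega)]
  apply H.inv_mem
  apply hS.hsubH
  have h3 : l - T.K < T.subs.length := by unfold KX at h2; omega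
  rw [List.getD_eq_getElem _ _ h3]
  exact List.getElem_mem h3

theorem Sem.ew_real (hS : T.Sem H g) (w : List ℕ) (hw : ∀ a ∈ w, a < T.K) :
    ew (T.gX g) w = ew g w :=
  ew_congr _ _ _ (fun a ha => hS.gX_real a (hw a ha))

theorem Sem.relsX_one (hS : T.Sem H g) (w : List ℕ) (hw : w ∈ T.relsX) : ew (T.gX g) w = 1 := by
  unfold relsX at hw
  rcases List.mem_append.mp hw with h | h
  · rw [hS.ew_real w (hS.hrelK w h)]; exact hS.hrel w h
  · obtain ⟨i, hi, rfl⟩ := subRels_mem _ _ _ h
    have hmem : T.subs.getD i [] ∈ T.subs := by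
      rw [List.getD_eq_getElem _ _ hi]; exact List.getElem_mem hi
    rw [ew_append, hS.ew_real _ (hS.hsubK _ hmem), ew_cons, ew_nil, mul_one]
    unfold gX
    rw [if_neg (by omega)]
    have : T.K + i - T.K = i := by omega
    rw [this]; simp

theorem Sem.relsX_lt (hS : T.Sem H g) (w : List ℕ) (hw : w ∈ T.relsX) : ∀ a ∈ w, a < T.KX := by
  unfold relsX at hw
  rcases List.mem_append.mp hw with h | h
  · intro a ha
    have := hS.hrelK w h a ha
    unfold KX; omega
  · obtain ⟨i, hi, rfl⟩ := subRels_mem _ _ _ h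
    have hmem : T.subs.getD i [] ∈ T.subs := by
      rw [List.getD_eq_getElem _ _ hi]; exact List.getElem_mem hi
    intro a ha
    rcases List.mem_append.mp ha with h' | h'
    · have := hS.hsubK _ hmem a h'
      unfold KX; omega
    · simp at h'
      unfold KX; omega

/-- The invariant: all facts of rank `< τ` are true. -/
def Inv (T : Tabs) (H : Subgroup G) (g : ℕ → G) (τ : ℕ) : Prop :=
  (∀ x < T.N', ∀ l < T.KX, T.rk l x < τ →
    T.tg l x < T.N' ∧ T.gX g l • T.val H g x = T.val H g (T.tg l x)) ∧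
  (∀ x < T.N', T.mt x < τ → T.mp x < T.N' ∧ T.val H g x = T.val H g (T.mp x))

theorem canon_spec {τ : ℕ} (hI : Inv T H g τ) (f x : ℕ) (hx : x < T.N') :
    T.canon τ f x < T.N' ∧ T.val H g (T.canon τ f x) = T.val H g x := by
  induction f generalizing x with
  | zero => exact ⟨hx, rfl⟩
  | succ f ih =>
    rw [canon_succ]
    by_cases h : τ ≤ T.mt x
    · rw [if_pos h]; exact ⟨hx, rfl⟩
    · rw [if_neg h]
      obtain ⟨h1, h2⟩ := hI.2 x hx (by omega)
      obtain ⟨h3, h4⟩ := ih (T.mp x) h1
      exact ⟨h3, h4.trans h2.symm⟩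

theorem step_spec {τ : ℕ} (hI : Inv T H g τ) (l x z : ℕ) (h : T.step τ l x = some z)
    (hx : x < T.N') (hl : l < T.KX) :
    z < T.N' ∧ T.val H g z = T.gX g l • T.val H g x := by
  rw [step_eq] at h
  by_cases h' : τ ≤ T.rk l (T.canon τ T.fuel x)
  · rw [if_pos h'] at h; exact absurd h (by simp)
  · rw [if_neg h'] at h
    obtain ⟨h1, h2⟩ := canon_spec hI T.fuel x hx
    obtain ⟨h3, h4⟩ := hI.1 _ h1 l hl (by omega)
    have hz : z = T.tg l (T.canon τ T.fuel x) := by
      have := Option.some.inj h; exact this.symm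
    rw [hz]
    exact ⟨h3, by rw [← h4, h2]⟩

theorem followK_spec {τ : ℕ} (hI : Inv T H g τ) (w : List ℕ) (o : Option ℕ) (z : ℕ)
    (h : T.followK τ w o = some z) :
    ∃ y, o = some y ∧ (y < T.N' → (∀ a ∈ w, a < T.KX) →
      z < T.N' ∧ T.val H g z = ew (T.gX g) w • T.val H g y) := by
  induction w generalizing z with
  | nil =>
    rw [followK_nil] at h
    refine ⟨z, h, fun hz _ => ⟨hz, ?_⟩⟩
    rw [ew_nil, one_smul]
  | cons a w ih =>
    rw [followK_cons] at h
    cases hf : T.followK τ w o with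
    | none => rw [hf, obind_none] at h; exact absurd h (by simp)
    | some z' =>
      rw [hf, obind_some] at h
      obtain ⟨y, hy, hspec⟩ := ih z' hf
      refine ⟨y, hy, fun hyN hw => ?_⟩
      obtain ⟨h1, h2⟩ := hspec hyN (fun b hb => hw b (List.mem_cons_of_mem _ hb))
      obtain ⟨h3, h4⟩ := step_spec hI a z' z h h1 (hw a List.mem_cons_self)
      refine ⟨h3, ?_⟩
      rw [h4, h2, ew_cons, mul_smul]

theorem sameC_spec {τ : ℕ} (o : Option ℕ) (x : ℕ) (h : T.sameC τ o x = true) :
    ∃ z, o = some z ∧ T.canon τ T.fuel z = T.canon τ T.fuel x := by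
  cases o with
  | none => exact absurd h (by simp [sameC])
  | some z => exact ⟨z, rfl, beq_true h⟩

/-- A scan of a full word does not move the coset. -/
theorem scan_spec0 (hS : T.Sem H g) {τ : ℕ} (hI : Inv T H g τ) (wc y z : ℕ)
    (h : T.scan τ wc 0 y = some z) (hy : y < T.N') :
    z < T.N' ∧ T.val H g z = T.val H g y := by
  unfold scan at h
  by_cases hwc : wc < T.K
  · have hb : Nat.blt wc T.K = true := by rw [Nat.blt_eq]; exact hwc
    rw [hb] at h
    have h' : obind (T.step τ (T.inv wc) y) (T.step τ wc) = some z := h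
    cases hs : T.step τ (T.inv wc) y with
    | none => rw [hs, obind_none] at h'; exact absurd h' (by simp)
    | some z' =>
      rw [hs, obind_some] at h'
      have hKX : T.K ≤ T.KX := by unfold KX; omega
      obtain ⟨h1, h2⟩ := step_spec hI _ y z' hs hy (lt_of_lt_of_le (hS.hinvK wc hwc) hKX)
      obtain ⟨h3, h4⟩ := step_spec hI _ z' z h' h1 (lt_of_lt_of_le hwc hKX)
      refine ⟨h3, ?_⟩
      rw [h4, h2, hS.gX_inv wc hwc, smul_smul, mul_inv_cancel, one_smul]
  · have hb : Nat.blt wc T.K = false := by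
      rw [← Bool.not_eq_true, Nat.blt_eq]; exact hwc
    rw [hb] at h
    rw [forceN_eq] at h
    set rel := nthL T.rx (Nat.div (Nat.sub wc T.K) T.RB) with hrel
    set p := Nat.mod (Nat.sub wc T.K) T.RB with hp
    have h' : T.followDrop τ rel (T.followTake τ rel (some y) p) (Nat.add p 0) = some z := h
    rw [followDrop_eq, followTake_eq] at h'
    have hp0 : Nat.add p 0 = p := rfl
    rw [hp0] at h'
    obtain ⟨y1, hy1, hspec1⟩ := followK_spec hI _ _ z h'
    obtain ⟨y0, hy0, hspec0⟩ := followK_spec hI _ _ y1 hy1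
    have hy0' : y0 = y := (Option.some.inj hy0).symm
    subst hy0'
    have hrelmem : rel = [] ∨ rel ∈ T.relsX := by
      rw [hrel, nthL_eq, hS.hrx]
      by_cases hlt : Nat.div (Nat.sub wc T.K) T.RB < T.relsX.length
      · right; rw [List.getD_eq_getElem _ _ hlt]; exact List.getElem_mem hlt
      · left; rw [List.getD_eq_default _ _ (by omega)]
    have hlet : ∀ a ∈ rel, a < T.KX := by
      rcases hrelmem with h0 | h0
      · rw [h0]; simp
      · exact hS.relsX_lt rel h0
    have hone : ew (T.gX g) rel = 1 := by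
      rcases hrelmem with h0 | h0
      · rw [h0]; rfl
      · exact hS.relsX_one rel h0
    obtain ⟨h1, h2⟩ := hspec0 hy (fun a ha => hlet a (List.mem_of_mem_take ha))
    obtain ⟨h3, h4⟩ := hspec1 h1 (fun a ha => hlet a (List.mem_of_mem_drop ha))
    refine ⟨h3, ?_⟩
    rw [h4, h2, smul_smul, ew_take_drop _ _ _ hone, one_smul]

/-- A scan of a word without its first letter `l` undoes `l`. -/
theorem scan_spec1 (hS : T.Sem H g) {τ : ℕ} (hI : Inv T H g τ) (wc y z l : ℕ)
    (h : T.scan τ wc 1 y = some z) (hy : y < T.N') (hl : l < T.KX) (hhead : T.scanHead wc = l) :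
    z < T.N' ∧ T.gX g l • T.val H g z = T.val H g y := by
  unfold scan at h
  unfold scanHead at hhead
  by_cases hwc : wc < T.K
  · have hb : Nat.blt wc T.K = true := by rw [Nat.blt_eq]; exact hwc
    rw [hb] at h hhead
    have h' : T.step τ (T.inv wc) y = some z := h
    have hl' : wc = l := hhead
    subst hl'
    have hKX : T.K ≤ T.KX := by unfold KX; omega
    obtain ⟨h1, h2⟩ := step_spec hI _ y z h' hy (lt_of_lt_of_le (hS.hinvK wc hwc) hKX)
    refine ⟨h1, ?_⟩
    rw [h2, hS.gX_inv wc hwc, smul_smul, mul_inv_cancel, one_smul]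
  · have hb : Nat.blt wc T.K = false := by
      rw [← Bool.not_eq_true, Nat.blt_eq]; exact hwc
    rw [hb] at h hhead
    rw [forceN_eq] at h hhead
    set rel := nthL T.rx (Nat.div (Nat.sub wc T.K) T.RB) with hrel
    set p := Nat.mod (Nat.sub wc T.K) T.RB with hp
    have hhead' : nth T.KX rel p = l := hhead
    rw [nth_eq] at hhead'
    have hplt : p < rel.length := by
      by_contra hge
      rw [List.getD_eq_default _ _ (by omega)] at hhead'
      omega
    rw [List.getD_eq_getElem _ _ hplt] at hhead'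
    have h' : T.followDrop τ rel (T.followTake τ rel (some y) p) (Nat.add p 1) = some z := h
    rw [followDrop_eq, followTake_eq] at h'
    have hp1 : Nat.add p 1 = p + 1 := rfl
    rw [hp1] at h'
    obtain ⟨y1, hy1, hspec1⟩ := followK_spec hI _ _ z h'
    obtain ⟨y0, hy0, hspec0⟩ := followK_spec hI _ _ y1 hy1
    have hy0' : y0 = y := (Option.some.inj hy0).symm
    subst hy0'
    have hrelmem : rel = [] ∨ rel ∈ T.relsX := by
      rw [hrel, nthL_eq, hS.hrx]
      by_cases hlt : Nat.div (Nat.sub wc T.K) T.RB < T.relsX.length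
      · right; rw [List.getD_eq_getElem _ _ hlt]; exact List.getElem_mem hlt
      · left; rw [List.getD_eq_default _ _ (by omega)]
    have hlet : ∀ a ∈ rel, a < T.KX := by
      rcases hrelmem with h0 | h0
      · rw [h0]; simp
      · exact hS.relsX_lt rel h0
    have hone : ew (T.gX g) rel = 1 := by
      rcases hrelmem with h0 | h0
      · rw [h0]; rfl
      · exact hS.relsX_one rel h0
    obtain ⟨h1, h2⟩ := hspec0 hy (fun a ha => hlet a (List.mem_of_mem_take ha))
    obtain ⟨h3, h4⟩ := hspec1 h1 (fun a ha => hlet a (List.mem_of_mem_drop ha))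
    refine ⟨h3, ?_⟩
    have hd : rel.drop p = l :: rel.drop (p + 1) := by
      rw [← hhead']; exact List.drop_eq_getElem_cons hplt
    have h5 := ew_take_drop (T.gX g) rel p hone
    rw [hd, ew_cons] at h5
    rw [h4, h2, smul_smul, smul_smul, h5, one_smul]

theorem inv_step (hS : T.Sem H g) (τ : ℕ) (hτ : τ < T.INF) (hI : Inv T H g τ) :
    Inv T H g (τ + 1) := by
  constructor
  · intro x hx l hl hr
    by_cases hlt : T.rk l x < τ
    · exact hI.1 x hx l hl hlt
    have hrk : T.rk l x = τ := by omega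
    have hc := hS.hchk x hx
    unfold chkName at hc
    rw [Bool.and_eq_true] at hc
    have hslot := (allLt_iff _ _).mp hc.1 l hl
    rw [chkSlot_eq] at hslot
    rw [hrk] at hslot
    rcases hj : T.jc l x with _ | _ | _ | _ | wc
    · rw [hj, chkSlotJ_zero] at hslot
      have : τ = T.INF := beq_true hslot
      omega
    · rw [hj, chkSlotJ_one] at hslot
      simp only [Bool.and_eq_true] at hslot
      obtain ⟨h1, h2, h3, h4, h5, h6⟩ := hslot
      have h1 := blt_true h1
      have h2 := blt_true h2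
      have h3 := beq_true h3
      have h4 := beq_true h4
      have h5 := blt_true h5
      have h6 := blt_true h6
      refine ⟨h1, ?_⟩
      have hdp : T.dpar (T.tg l x) = x := by unfold dpar; rw [h3, h4]
      rw [T.val_pos H g (T.tg l x) h2 (by rw [hdp]; exact h5), hdp, h3, hS.gX_real l h6]
    · rw [hj, chkSlotJ_two] at hslot
      simp only [Bool.and_eq_true] at hslot
      obtain ⟨h1, h2, h3, h4, h5⟩ := hslot
      have h1 := blt_true h1
      have h2 := blt_true h2
      have h3 := beq_true h3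
      have h4 := blt_true h4
      have h5 := blt_true h5
      refine ⟨h1, ?_⟩
      have hdp : T.dpar x = T.tg l x := by unfold dpar; rw [← h3]
      rw [T.val_pos H g x h2 (by rw [hdp]; exact h5), hdp, h3,
        hS.gX_real _ (hS.hinvK _ h4), hS.hinv _ h4, smul_smul, inv_mul_cancel, one_smul]
    · rw [hj, chkSlotJ_three] at hslot
      simp only [Bool.and_eq_true] at hslot
      obtain ⟨h1, h2, h3⟩ := hslot
      have h1 := beq_true h1
      have h2 := beq_true h2
      have h3 := ble_true h3
      rw [h2]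
      refine ⟨by omega, ?_⟩
      rw [h1, T.val_zero H g, MulAction.Quotient.smul_mk, QuotientGroup.eq]
      have := hS.gX_virt l h3 hl
      simpa using H.inv_mem this
    · rw [hj, chkSlotJ_scan] at hslot
      simp only [Bool.and_eq_true] at hslot
      obtain ⟨h1, h2, h3⟩ := hslot
      have h1 := blt_true h1
      have h2 := beq_true h2
      refine ⟨h1, ?_⟩
      obtain ⟨z, hz, hcz⟩ := sameC_spec _ _ h3
      obtain ⟨h4, h5⟩ := scan_spec1 hS hI wc (T.tg l x) z l hz h1 hl h2
      have h6 := (canon_spec hI T.fuel z h4).2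
      have h7 := (canon_spec hI T.fuel x hx).2
      rw [hcz, h7] at h6
      rw [h6, h5]
  · intro x hx hr
    by_cases hlt : T.mt x < τ
    · exact hI.2 x hx hlt
    have hmt : T.mt x = τ := by omega
    have hc := hS.hchk x hx
    unfold chkName at hc
    rw [Bool.and_eq_true] at hc
    have hq := hc.2
    rw [chkQ_eq] at hq
    rw [hmt] at hq
    rcases hj : T.qj x with _ | c'
    · rw [hj, chkQJ_zero] at hq
      have : τ = T.INF := beq_true hq
      omega
    · rw [hj, chkQJ_succ] at hq
      simp only [Bool.and_eq_true] at hq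
      obtain ⟨h1, h2⟩ := hq
      have h1 := blt_true h1
      refine ⟨h1, ?_⟩
      rcases hd : Nat.mod c' 2 with _ | d
      · rw [hd] at h2
        obtain ⟨z, hz, hcz⟩ := sameC_spec _ _ h2
        obtain ⟨h4, h5⟩ := scan_spec0 hS hI _ x z hz hx
        have h6 := (canon_spec hI T.fuel z h4).2
        have h7 := (canon_spec hI T.fuel (T.mp x) h1).2
        rw [hcz, h7] at h6
        rw [h6, h5]
      · rw [hd] at h2
        obtain ⟨z, hz, hcz⟩ := sameC_spec _ _ h2
        obtain ⟨h4, h5⟩ := scan_spec0 hS hI _ (T.mp x) z hz h1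
        have h6 := (canon_spec hI T.fuel z h4).2
        have h7 := (canon_spec hI T.fuel x hx).2
        rw [hcz, h7] at h6
        rw [h6, h5]

theorem inv_all (hS : T.Sem H g) : ∀ τ, τ ≤ T.INF → Inv T H g τ := by
  intro τ
  induction τ with
  | zero =>
    intro _
    exact ⟨fun x _ l _ h => absurd h (by omega), fun x _ h => absurd h (by omega)⟩
  | succ τ ih =>
    intro h
    exact inv_step hS τ (by omega) (ih (by omega))

/-- The final table describes the action of the letters on the cosets of the final names. -/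
theorem fin_spec (hS : T.Sem H g) (v : ℕ) (hv : v < T.N) (l : ℕ) (hl : l < T.K) :
    T.tb l v < T.N ∧ g l • T.val H g v = T.val H g (T.tb l v) := by
  have hI := inv_all hS T.INF le_rfl
  have hf := (allLt_iff _ _).mp (hS.hfin v hv) l hl
  unfold chkFin at hf
  simp only [Bool.and_eq_true] at hf
  obtain ⟨h1, h2, h3⟩ := hf
  have h1 := blt_true h1
  have h2 := beq_true h2
  have h3 := blt_true h3
  refine ⟨h3, ?_⟩
  have hv' : v < T.N' := lt_of_lt_of_le hv hS.hNN
  have hKX : T.K ≤ T.KX := by unfold KX; omega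
  obtain ⟨h4, h5⟩ := hI.1 v hv' l (lt_of_lt_of_le hl hKX) h1
  have h6 := (canon_spec hI T.fuel _ h4).2
  rw [h2] at h6
  rw [h6, ← h5, hS.gX_real l hl]

/-- Every coset is the coset of a final name. -/
theorem cover (hS : T.Sem H g) (hN : 0 < T.N)
    (hgen : Subgroup.closure {x | ∃ l < T.K, x = g l} = ⊤) (q : G ⧸ H) :
    ∃ v < T.N, q = T.val H g v := by
  let S : Set (G ⧸ H) := {q | ∃ v < T.N, q = T.val H g v}
  have key : ∀ x : G, (∀ q ∈ S, x • q ∈ S) ∧ (∀ q ∈ S, x⁻¹ • q ∈ S) := by
    intro x
    have hx : x ∈ Subgroup.closure {x | ∃ l < T.K, x = g l} := by rw [hgen]; trivial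
    induction hx using Subgroup.closure_induction with
    | mem x hx =>
      obtain ⟨l, hl, rfl⟩ := hx
      constructor
      · rintro q ⟨v, hv, rfl⟩
        obtain ⟨h1, h2⟩ := fin_spec hS v hv l hl
        exact ⟨_, h1, h2⟩
      · rintro q ⟨v, hv, rfl⟩
        obtain ⟨h1, h2⟩ := fin_spec hS v hv (T.inv l) (hS.hinvK l hl)
        rw [hS.hinv l hl] at h2
        exact ⟨_, h1, h2⟩
    | one =>
      constructor
      · intro q hq; rwa [one_smul]
      · intro q hq; rwa [inv_one, one_smul]
    | mul x y _ _ hx hy =>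
      constructor
      · intro q hq; rw [mul_smul]; exact hx.1 _ (hy.1 q hq)
      · intro q hq; rw [mul_inv_rev, mul_smul]; exact hy.2 _ (hx.2 q hq)
    | inv x _ hx =>
      constructor
      · exact hx.2
      · intro q hq; rw [inv_inv]; exact hx.1 q hq
  induction q using QuotientGroup.induction_on with
  | H x =>
    have h1 : ((1 : G) : G ⧸ H) ∈ S := ⟨0, hN, (T.val_zero H g).symm⟩
    have h2 := (key x).1 _ h1
    rw [MulAction.Quotient.smul_mk, smul_eq_mul, mul_one] at h2
    exact h2

end sem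


/-! ### Part 1: the permutation representation on the final names -/

/-- Follow a word (last letter first) in the final table. -/
noncomputable def followT (w : List ℕ) (v : ℕ) : ℕ :=
  List.rec (motive := fun _ => ℕ) v (fun a _ ih => forceN (T.tb a) ih) w

theorem followT_nil (v : ℕ) : T.followT [] v = v := rfl
theorem followT_cons (a : ℕ) (w : List ℕ) (v : ℕ) :
    T.followT (a :: w) v = T.tb a (T.followT w v) := by
  show forceN (T.tb a) (T.followT w v) = _
  rw [forceN_eq]

theorem followT_append (u w : List ℕ) (v : ℕ) :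
    T.followT (u ++ w) v = T.followT u (T.followT w v) := by
  induction u with
  | nil => rfl
  | cons a u ih => rw [List.cons_append, followT_cons, followT_cons, ih]

/-- Conjunction over a list of words. -/
noncomputable def allW (p : List ℕ → Bool) (ws : List (List ℕ)) : Bool :=
  List.rec (motive := fun _ => Bool) true (fun w _ ih => p w && ih) ws

theorem allW_iff (p : List ℕ → Bool) (ws : List (List ℕ)) :
    allW p ws = true ↔ ∀ w ∈ ws, p w = true := by
  induction ws with
  | nil => simp [allW]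
  | cons w ws ih =>
    show (p w && allW p ws) = true ↔ _
    rw [Bool.and_eq_true, ih]
    simp

/-- The checks of part 1 at the final name `v`. -/
noncomputable def chk1 (v : ℕ) : Bool :=
  allLt (fun l => Nat.blt (T.tb l v) T.N && Nat.beq (T.tb (T.inv l) (T.tb l v)) v) T.K &&
  (allW (fun w => Nat.beq (T.followT w v) v) T.rels1 &&
   (Nat.beq v 0 || (Nat.blt (T.tpl v) T.K &&
      Nat.blt (T.tdep (T.tb (T.inv (T.tpl v)) v)) (T.tdep v))))

/-- The small global checks. -/
def chk0 : Bool :=
  decide (0 < T.N) && decide (T.N ≤ T.N') &&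
  (List.range T.K).all (fun l => decide (T.inv l < T.K) && decide (T.inv (T.inv l) = l)) &&
  T.rels1.all (fun w => w.all (fun a => decide (a < T.K))) &&
  T.subs.all (fun w => w.all (fun a => decide (a < T.K)))

/-- The hypotheses of part 1. -/
structure P1 : Prop where
  hN : 0 < T.N
  hNN : T.N ≤ T.N'
  hinvK : ∀ l < T.K, T.inv l < T.K
  hinv2 : ∀ l < T.K, T.inv (T.inv l) = l
  hrelK : ∀ w ∈ T.rels1, ∀ a ∈ w, a < T.K
  hsubK : ∀ s ∈ T.subs, ∀ a ∈ s, a < T.K
  hchk1 : ∀ v < T.N, T.chk1 v = true
  hsub0 : ∀ s ∈ T.subs, T.followT s 0 = 0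

theorem P1.of_chk0 (h0 : T.chk0 = true) (h1 : ∀ v < T.N, T.chk1 v = true)
    (h2 : allW (fun s => Nat.beq (T.followT s 0) 0) T.subs = true) : T.P1 := by
  unfold chk0 at h0
  simp only [Bool.and_eq_true, decide_eq_true_eq, List.all_eq_true, List.mem_range] at h0
  obtain ⟨⟨⟨⟨hN, hNN⟩, hinv⟩, hrel⟩, hsub⟩ := h0
  exact
    { hN := hN
      hNN := hNN
      hinvK := fun l hl => (hinv l hl).1
      hinv2 := fun l hl => (hinv l hl).2
      hrelK := hrel
      hsubK := hsub
      hchk1 := h1
      hsub0 := fun s hs => beq_true ((allW_iff _ _).mp h2 s hs) }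

variable {T}

theorem P1.tb_lt (hP : T.P1) (l : ℕ) (hl : l < T.K) (v : ℕ) (hv : v < T.N) : T.tb l v < T.N := by
  have h := hP.hchk1 v hv
  unfold chk1 at h
  simp only [Bool.and_eq_true] at h
  have h2 := (allLt_iff _ _).mp h.1 l hl
  simp only [Bool.and_eq_true] at h2
  exact blt_true h2.1

theorem P1.tb_inv (hP : T.P1) (l : ℕ) (hl : l < T.K) (v : ℕ) (hv : v < T.N) :
    T.tb (T.inv l) (T.tb l v) = v := by
  have h := hP.hchk1 v hv
  unfold chk1 at h
  simp only [Bool.and_eq_true] at h
  have h2 := (allLt_iff _ _).mp h.1 l hl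
  simp only [Bool.and_eq_true] at h2
  exact beq_true h2.2

theorem P1.tb_inv' (hP : T.P1) (l : ℕ) (hl : l < T.K) (v : ℕ) (hv : v < T.N) :
    T.tb l (T.tb (T.inv l) v) = v := by
  have h := hP.tb_inv (T.inv l) (hP.hinvK l hl) v hv
  rwa [hP.hinv2 l hl] at h

theorem P1.followT_lt (hP : T.P1) (w : List ℕ) (hw : ∀ a ∈ w, a < T.K) (v : ℕ) (hv : v < T.N) :
    T.followT w v < T.N := by
  induction w with
  | nil => exact hv
  | cons a w ih =>
    rw [followT_cons]
    exact hP.tb_lt a (hw a List.mem_cons_self) _ (ih (fun b hb => hw b (List.mem_cons_of_mem _ hb)))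

theorem perm_apply_inv {α : Type*} (e : Equiv.Perm α) (x : α) : e (e⁻¹ x) = x :=
  Equiv.apply_symm_apply e x

theorem perm_inv_apply {α : Type*} (e : Equiv.Perm α) (x : α) : e⁻¹ (e x) = x :=
  Equiv.symm_apply_apply e x

/-- The permutation attached to the letter `l`. -/
noncomputable def sigma (hP : T.P1) (l : ℕ) : Equiv.Perm (Fin T.N) :=
  if hl : l < T.K then
    { toFun := fun v => ⟨T.tb l v, hP.tb_lt l hl v v.2⟩
      invFun := fun v => ⟨T.tb (T.inv l) v, hP.tb_lt _ (hP.hinvK l hl) v v.2⟩
      left_inv := fun v => Fin.ext (hP.tb_inv l hl v v.2)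
      right_inv := fun v => Fin.ext (hP.tb_inv' l hl v v.2) }
  else 1

theorem sigma_apply (hP : T.P1) (l : ℕ) (hl : l < T.K) (v : Fin T.N) :
    ((sigma hP l v : Fin T.N) : ℕ) = T.tb l v := by
  unfold sigma
  rw [dif_pos hl]
  rfl

theorem sigma_inv (hP : T.P1) (l : ℕ) (hl : l < T.K) :
    sigma hP (T.inv l) = (sigma hP l)⁻¹ := by
  apply Equiv.ext
  intro v
  apply (sigma hP l).injective
  rw [perm_apply_inv]
  apply Fin.ext
  rw [sigma_apply hP l hl, sigma_apply hP _ (hP.hinvK l hl)]
  exact hP.tb_inv' l hl v v.2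

theorem ew_sigma (hP : T.P1) (w : List ℕ) (hw : ∀ a ∈ w, a < T.K) (v : Fin T.N) :
    (((ew (sigma hP) w) v : Fin T.N) : ℕ) = T.followT w v := by
  induction w with
  | nil => rfl
  | cons a w ih =>
    rw [ew_cons, Equiv.Perm.mul_apply, sigma_apply hP a (hw a List.mem_cons_self), followT_cons,
      ih (fun b hb => hw b (List.mem_cons_of_mem _ hb))]

theorem sigma_rel (hP : T.P1) (w : List ℕ) (hw : w ∈ T.rels1) : ew (sigma hP) w = 1 := by
  apply Equiv.ext
  intro v
  apply Fin.ext
  rw [ew_sigma hP w (hP.hrelK w hw)]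
  have h := hP.hchk1 v v.2
  unfold chk1 at h
  simp only [Bool.and_eq_true] at h
  exact beq_true ((allW_iff _ _).mp h.2.1 w hw)

theorem sigma_sub (hP : T.P1) (s : List ℕ) (hs : s ∈ T.subs) :
    (ew (sigma hP) s) ⟨0, hP.hN⟩ = ⟨0, hP.hN⟩ := by
  apply Fin.ext
  rw [ew_sigma hP s (hP.hsubK s hs)]
  exact hP.hsub0 s hs

theorem sigma_trans (hP : T.P1) (v : ℕ) (hv : v < T.N) :
    ∃ w : List ℕ, (∀ a ∈ w, a < T.K) ∧ T.followT w 0 = v := by
  induction hn : T.tdep v using Nat.strong_induction_on generalizing v with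
  | _ n ih =>
    have h := hP.hchk1 v hv
    unfold chk1 at h
    simp only [Bool.and_eq_true, Bool.or_eq_true] at h
    rcases h.2.2 with h0 | ⟨h1, h2⟩
    · exact ⟨[], by simp, (beq_true h0).symm⟩
    · have h1 := blt_true h1
      have h2 := blt_true h2
      have hi := hP.hinvK _ h1
      have hp := hP.tb_lt _ hi v hv
      obtain ⟨w, hw, hf⟩ := ih _ (by rw [← hn]; exact h2) _ hp rfl
      refine ⟨T.tpl v :: w, ?_, ?_⟩
      · intro a ha
        rcases List.mem_cons.mp ha with rfl | ha
        · exact h1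
        · exact hw a ha
      · rw [followT_cons, hf]
        exact hP.tb_inv' _ h1 v hv

theorem map_ew {G G' : Type*} [Group G] [Group G'] (φ : G →* G') (g : ℕ → G) (w : List ℕ) :
    φ (ew g w) = ew (fun l => φ (g l)) w := by
  induction w with
  | nil => simp [ew]
  | cons a w ih => rw [ew_cons, ew_cons, map_mul, ih]

section main

variable {G : Type*} [Group G] {H : Subgroup G} {g : ℕ → G}

/-- The main theorem: the final names are in equivariant bijection with the cosets. -/
theorem main (hS : T.Sem H g) (hP : T.P1)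
    (hgen : Subgroup.closure {x | ∃ l < T.K, x = g l} = ⊤)
    (φ : G →* Equiv.Perm (Fin T.N)) (hφ : ∀ l < T.K, φ (g l) = sigma hP l)
    (hH : H = Subgroup.closure {x | ∃ s ∈ T.subs, x = ew g s}) :
    ∃ f : Fin T.N ≃ G ⧸ H, (∀ (x : G) (v : Fin T.N), f (φ x v) = x • f v) ∧
      f ⟨0, hP.hN⟩ = ((1 : G) : G ⧸ H) := by
  have hφw : ∀ w : List ℕ, (∀ a ∈ w, a < T.K) → φ (ew g w) = ew (sigma hP) w := by
    intro w hw
    rw [map_ew]
    exact ew_congr _ _ _ (fun a ha => hφ a (hw a ha))
  -- equivariance of `val`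
  have hgenl : ∀ l < T.K, ∀ v : Fin T.N, T.val H g (sigma hP l v) = g l • T.val H g v := by
    intro l hl v
    rw [sigma_apply hP l hl]
    exact (fin_spec hS v v.2 l hl).2.symm
  have hequiv : ∀ (x : G) (v : Fin T.N), T.val H g (φ x v) = x • T.val H g v := by
    intro x
    have hx : x ∈ Subgroup.closure {x | ∃ l < T.K, x = g l} := by rw [hgen]; trivial
    induction hx using Subgroup.closure_induction with
    | mem x hx =>
      obtain ⟨l, hl, rfl⟩ := hx
      intro v
      rw [hφ l hl]
      exact hgenl l hl v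
    | one => intro v; rw [map_one, one_smul]; rfl
    | mul x y _ _ hx hy =>
      intro v
      rw [map_mul, Equiv.Perm.mul_apply, hx, hy, mul_smul]
    | inv x _ hx =>
      intro v
      have h := hx ((φ x)⁻¹ v)
      rw [perm_apply_inv] at h
      rw [map_inv, h, smul_smul, inv_mul_cancel, one_smul]
  -- `H` fixes the root
  have hfix : ∀ h ∈ H, φ h ⟨0, hP.hN⟩ = ⟨0, hP.hN⟩ := by
    intro h hh
    rw [hH] at hh
    induction hh using Subgroup.closure_induction with
    | mem x hx =>
      obtain ⟨s, hs, rfl⟩ := hx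
      rw [hφw s (hP.hsubK s hs)]
      exact sigma_sub hP s hs
    | one => rw [map_one]; rfl
    | mul x y _ _ hx hy => rw [map_mul, Equiv.Perm.mul_apply, hy, hx]
    | inv x _ hx =>
      rw [map_inv]
      apply (φ x).injective
      rw [perm_apply_inv, hx]
  -- the map back
  let ψ : G ⧸ H → Fin T.N := fun q => Quotient.liftOn' q (fun x => φ x ⟨0, hP.hN⟩) (by
    intro a b hab
    rw [QuotientGroup.leftRel_apply] at hab
    have h1 := hfix _ hab
    rw [map_mul, map_inv, Equiv.Perm.mul_apply] at h1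
    show φ a ⟨0, hP.hN⟩ = φ b ⟨0, hP.hN⟩
    have h2 := congrArg (φ a) h1
    rw [perm_apply_inv] at h2
    exact h2.symm)
  have hψ : ∀ v : Fin T.N, ψ (T.val H g v) = v := by
    intro v
    obtain ⟨w, hw, hf⟩ := sigma_trans hP v v.2
    have h1 : φ (ew g w) ⟨0, hP.hN⟩ = v := by
      apply Fin.ext
      rw [hφw w hw, ew_sigma hP w hw]
      exact hf
    have h2 : T.val H g v = ((ew g w : G) : G ⧸ H) := by
      rw [← h1, hequiv]
      show ew g w • T.val H g 0 = _
      rw [T.val_zero H g, MulAction.Quotient.smul_mk, smul_eq_mul, mul_one]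
    rw [h2]
    exact h1
  have hinj : Function.Injective (fun v : Fin T.N => T.val H g v) := by
    intro a b hab
    have := congrArg ψ hab
    simp only at this
    rwa [hψ, hψ] at this
  have hsurj : Function.Surjective (fun v : Fin T.N => T.val H g v) := by
    intro q
    obtain ⟨v, hv, rfl⟩ := cover hS hP.hN hgen q
    exact ⟨⟨v, hv⟩, rfl⟩
  refine ⟨Equiv.ofBijective _ ⟨hinj, hsurj⟩, ?_, ?_⟩
  · intro x v
    exact hequiv x v
  · exact T.val_zero H g

theorem index_eq (hS : T.Sem H g) (hP : T.P1)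
    (hgen : Subgroup.closure {x | ∃ l < T.K, x = g l} = ⊤)
    (φ : G →* Equiv.Perm (Fin T.N)) (hφ : ∀ l < T.K, φ (g l) = sigma hP l)
    (hH : H = Subgroup.closure {x | ∃ s ∈ T.subs, x = ew g s}) :
    H.index = T.N := by
  obtain ⟨f, -, -⟩ := main hS hP hgen φ hφ hH
  unfold Subgroup.index
  rw [← Nat.card_congr f, Nat.card_fin]

/-- The orbit checks at the final name `v`. -/
noncomputable def chkO (T : Tabs) (v : ℕ) : Bool :=
  allW (fun s => Nat.beq (T.ol (T.followT s v)) (T.ol v)) T.subs &&
  (Nat.beq v (T.orep (T.ol v)) ||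
    (Nat.blt (T.op v) T.N && (Nat.blt (T.odep (T.op v)) (T.odep v) &&
      Nat.beq (T.followT (nthL T.subs (T.oc v)) (T.op v)) v)))

/-- Size of an orbit of `H` on the cosets: the number of final names with the given label. -/
theorem orbit_ncard (hP : T.P1) (φ : G →* Equiv.Perm (Fin T.N))
    (hφ : ∀ l < T.K, φ (g l) = sigma hP l)
    (hH : H = Subgroup.closure {x | ∃ s ∈ T.subs, x = ew g s})
    (hO : ∀ v < T.N, T.chkO v = true)
    (f : Fin T.N ≃ G ⧸ H) (hf : ∀ (x : G) (v : Fin T.N), f (φ x v) = x • f v)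
    (c : ℕ) (hc : T.orep c < T.N) (hc2 : T.ol (T.orep c) = c) :
    (MulAction.orbit H (f ⟨T.orep c, hc⟩)).ncard = countLt (fun v => Nat.beq (T.ol v) c) T.N := by
  have hφw : ∀ w : List ℕ, (∀ a ∈ w, a < T.K) → φ (ew g w) = ew (sigma hP) w := by
    intro w hw
    rw [map_ew]
    exact ew_congr _ _ _ (fun a ha => hφ a (hw a ha))
  have hsubH : ∀ s ∈ T.subs, ew g s ∈ H := by
    intro s hs
    rw [hH]
    exact Subgroup.subset_closure ⟨s, hs, rfl⟩
  have hsubv : ∀ s ∈ T.subs, ∀ v : Fin T.N, ((φ (ew g s) v : Fin T.N) : ℕ) = T.followT s v := by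
    intro s hs v
    rw [hφw s (hP.hsubK s hs), ew_sigma hP s (hP.hsubK s hs)]
  -- the label is invariant
  have hinvar : ∀ h ∈ H, ∀ v : Fin T.N, T.ol (φ h v) = T.ol v := by
    intro h hh
    rw [hH] at hh
    induction hh using Subgroup.closure_induction with
    | mem x hx =>
      obtain ⟨s, hs, rfl⟩ := hx
      intro v
      rw [hsubv s hs v]
      have h1 := hO v v.2
      unfold chkO at h1
      simp only [Bool.and_eq_true] at h1
      exact beq_true ((allW_iff _ _).mp h1.1 s hs)
    | one => intro v; rw [map_one]; rfl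
    | mul x y _ _ hx hy =>
      intro v
      rw [map_mul, Equiv.Perm.mul_apply, hx, hy]
    | inv x _ hx =>
      intro v
      have h1 := hx ((φ x)⁻¹ v)
      rw [perm_apply_inv] at h1
      rw [map_inv, h1]
  -- every name is reached from the representative of its label
  have hreach : ∀ n : ℕ, ∀ v : Fin T.N, T.odep v = n → ∀ r : Fin T.N,
      (r : ℕ) = T.orep (T.ol v) → ∃ h ∈ H, φ h r = v := by
    intro n
    induction n using Nat.strong_induction_on with
    | _ n ih =>
      intro v hn r hr
      have h1 := hO v v.2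
      unfold chkO at h1
      simp only [Bool.and_eq_true, Bool.or_eq_true] at h1
      rcases h1.2 with h0 | ⟨h2, h3, h4⟩
      · refine ⟨1, H.one_mem, ?_⟩
        rw [map_one]
        apply Fin.ext
        show (r : ℕ) = v
        rw [hr, ← beq_true h0]
      · have h2 := blt_true h2
        have h3 := blt_true h3
        have h4 := beq_true h4
        have hsmem : nthL T.subs (T.oc v) ∈ T.subs := by
          rw [nthL_eq]
          by_cases hlt : T.oc v < T.subs.length
          · rw [List.getD_eq_getElem _ _ hlt]; exact List.getElem_mem hlt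
          · rw [nthL_eq, List.getD_eq_default _ _ (by omega)] at h4
            rw [followT_nil] at h4
            rw [h4] at h3
            omega
        set s := nthL T.subs (T.oc v) with hs
        have h5 : ((φ (ew g s) ⟨T.op v, h2⟩ : Fin T.N) : ℕ) = v := by
          rw [hsubv s hsmem]; exact h4
        have h6 : T.ol v = T.ol (T.op v) := by
          have := hinvar _ (hsubH s hsmem) ⟨T.op v, h2⟩
          rw [h5] at this
          exact this
        obtain ⟨h', hh', hr'⟩ := ih (T.odep (T.op v)) (by rw [← hn]; exact h3) ⟨T.op v, h2⟩ rfl r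
          (by rw [hr, h6])
        refine ⟨ew g s * h', H.mul_mem (hsubH s hsmem) hh', ?_⟩
        rw [map_mul, Equiv.Perm.mul_apply, hr']
        exact Fin.ext h5
  have hset : MulAction.orbit H (f ⟨T.orep c, hc⟩) =
      f '' {v : Fin T.N | Nat.beq (T.ol v) c = true} := by
    ext q
    constructor
    · rintro ⟨h, rfl⟩
      refine ⟨φ (h : G) ⟨T.orep c, hc⟩, ?_, ?_⟩
      · show Nat.beq (T.ol (φ (h : G) ⟨T.orep c, hc⟩)) c = true
        rw [hinvar _ h.2 ⟨T.orep c, hc⟩]
        show Nat.beq (T.ol (T.orep c)) c = true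
        rw [hc2]
        exact Nat.beq_refl c
      · rw [hf]
        rfl
    · rintro ⟨v, hv, rfl⟩
      have hv' : T.ol v = c := beq_true hv
      obtain ⟨h, hh, hr⟩ := hreach _ v rfl ⟨T.orep c, hc⟩ (by rw [hv'])
      refine ⟨⟨h, hh⟩, ?_⟩
      show (h : G) • f ⟨T.orep c, hc⟩ = f v
      rw [← hf, hr]
  rw [hset, Set.ncard_image_of_injective _ f.injective]
  exact ncard_fin_eq_countLt T.N (fun v => Nat.beq (T.ol v) c)

/-- All checks at a final name. -/
noncomputable def chkV (T : Tabs) (v : ℕ) : Bool :=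
  T.chkFinName v && (T.chk1 v && T.chkO v)

/-- A complete certificate. -/
structure Cert (T : Tabs) : Prop where
  h0 : T.chk0 = true
  hrx : T.rx = T.relsX
  hs0 : allW (fun s => Nat.beq (T.followT s 0) 0) T.subs = true
  hname : ∀ x < T.N', T.chkName x = true
  hV : ∀ v < T.N, T.chkV v = true

theorem Cert.p1 (hC : T.Cert) : T.P1 :=
  P1.of_chk0 T hC.h0 (fun v hv => by
    have h := hC.hV v hv
    unfold chkV at h
    simp only [Bool.and_eq_true] at h
    exact h.2.1) hC.hs0

/-- The final statement: index and orbit sizes. -/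
theorem final (hC : T.Cert)
    (hgen : Subgroup.closure {x | ∃ l < T.K, x = g l} = ⊤)
    (hinv : ∀ l < T.K, g (T.inv l) = (g l)⁻¹)
    (hrel : ∀ w ∈ T.rels1, ew g w = 1)
    (hH : H = Subgroup.closure {x | ∃ s ∈ T.subs, x = ew g s})
    (hlift : ∀ hP : T.P1, ∃ φ : G →* Equiv.Perm (Fin T.N), ∀ l < T.K, φ (g l) = sigma hP l) :
    H.index = T.N ∧ ∀ c, T.orep c < T.N → T.ol (T.orep c) = c →
      ∃ q : G ⧸ H, (MulAction.orbit H q).ncard = countLt (fun v => Nat.beq (T.ol v) c) T.N := by
  have hP := hC.p1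
  obtain ⟨φ, hφ⟩ := hlift hP
  have hS : T.Sem H g :=
    { hNN := hP.hNN
      hinvK := hP.hinvK
      hinv := hinv
      hsubH := fun s hs => by
        rw [hH]; exact Subgroup.subset_closure ⟨s, hs, rfl⟩
      hsubK := hP.hsubK
      hrel := hrel
      hrelK := hP.hrelK
      hrx := hC.hrx
      hchk := hC.hname
      hfin := fun v hv => by
        have h := hC.hV v hv
        unfold chkV at h
        simp only [Bool.and_eq_true] at h
        exact h.1 }
  have hO : ∀ v < T.N, T.chkO v = true := fun v hv => by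
    have h := hC.hV v hv
    unfold chkV at h
    simp only [Bool.and_eq_true] at h
    exact h.2.2
  obtain ⟨f, hf, -⟩ := main hS hP hgen φ hφ hH
  refine ⟨index_eq hS hP hgen φ hφ hH, fun c hc hc2 => ⟨f ⟨T.orep c, hc⟩, ?_⟩⟩
  exact orbit_ncard hP φ hφ hH hO f hf c hc hc2

end main

end Tabs

/-! ### Assembling slices -/

open Tabs

/-- `p` holds below `n`. -/
def Upto (p : ℕ → Bool) (n : ℕ) : Prop := ∀ x < n, p x = true

theorem upto_zero (p : ℕ → Bool) : Upto p 0 := fun x hx => absurd hx (Nat.not_lt_zero x)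

theorem upto_add {p : ℕ → Bool} {lo n m : ℕ} (h : Upto p lo) (hm : lo + n = m)
    (h2 : allRange (fun x => forceN p x) lo n = true) : Upto p m := by
  intro x hx
  by_cases hlt : x < lo
  · exact h x hlt
  · have h3 := (allRange_iff _ lo n).mp h2 x (by omega) (by omega)
    rwa [forceN_eq] at h3

/-! ### Packed data -/

/-- The `n`-th element of a list of lists of lists, with recursors. -/
noncomputable def nthLL (w : List (List (List ℕ))) : ℕ → List (List ℕ) :=
  List.rec (motive := fun _ => ℕ → List (List ℕ)) (fun _ => [])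
    (fun a _ ih n => Nat.rec (motive := fun _ => List (List ℕ)) a (fun n' _ => ih n') n) w

/-- Record `i` of a packed array: `c` records of `w` bits per chunk, mask `m`. -/
noncomputable def recAt (A : List (List (List ℕ))) (c w m i : ℕ) : ℕ :=
  forceN (fun k1 => forceN (fun k2 => forceN (fun k3 =>
      Nat.land (Nat.shiftRight (nth 0 (nthL (nthLL A k1) k2) k3) (Nat.mul (Nat.mod i c) w)) m)
    (Nat.mod (Nat.div i c) 32)) (Nat.mod (Nat.div (Nat.div i c) 32) 32))
    (Nat.div (Nat.div i c) 1024)

/-- A field of a record. -/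
noncomputable def fld (r o m : ℕ) : ℕ := Nat.land (Nat.shiftRight r o) m

/-- A field of the record of the slot `(l, x)`; `dflt` for the letters `≥ K`. -/
noncomputable def slotFld (A : List (List (List ℕ))) (c w m K o fm : ℕ) (dflt : ℕ → ℕ) (l x : ℕ) :
    ℕ :=
  Bool.rec (motive := fun _ => ℕ) (dflt x)
    (fld (recAt A c w m (Nat.add (Nat.mul x K) l)) o fm) (Nat.blt l K)

/-- A field of the record of the name `x`. -/
noncomputable def nameFld (A : List (List (List ℕ))) (c w m o fm : ℕ) (x : ℕ) : ℕ :=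
  fld (recAt A c w m x) o fm

end Cfsg.Agent.Lib.Helper56.TC
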