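import Mathlib
import Cfsg.Prelude.Def_SporCoxeter
import Cfsg.Agent.Lib.Helper56.TC

set_option autoImplicit false

/-!
Coset enumeration certificates for the Coxeter-style presentations of the sporadic groups
(all generators involutions and nodes of the graph).
-/

namespace Cfsg.Agent.Lib.Helper56.TC

open Cfsg.Spor

section cox

variable {α : Type} [DecidableEq α]

/-- The word of a free group element; a letter is the index of its generator in `gens`. -/
def wordOf (gens : List α) (r : FreeGroup α) : List ℕ := r.toWord.map (fun p => gens.idxOf p.1)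

/-- The words of the Coxeter relators of the pairs of distinct generators. -/
def coxW (edges : List (α × ℕ × α)) (gens : List α) : List (List ℕ) :=
  gens.flatMap fun x => gens.flatMap fun y =>
    if gens.idxOf x < gens.idxOf y then
      [(List.replicate (coxLabel edges x y) [gens.idxOf x, gens.idxOf y]).flatten]
    else []

theorem ew_rep {G : Type*} [Monoid G] (g : ℕ → G) (w : List ℕ) (m : ℕ) :
    ew g (List.replicate m w).flatten = (ew g w) ^ m := by
  induction m with
  | zero => simp [ew]
  | succ m ih =>
    rw [List.replicate_succ, List.flatten_cons, ew_append, ih, pow_succ']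

theorem lift_eq_ew {G' : Type*} [Group G'] (gens : List α) (γ : α → G') (γ' : ℕ → G')
    (hγ : ∀ x, γ' (gens.idxOf x) = γ x) (hinv : ∀ x, (γ x)⁻¹ = γ x) (r : FreeGroup α) :
    FreeGroup.lift γ r = ew γ' (wordOf gens r) := by
  conv_lhs => rw [← FreeGroup.mk_toWord (x := r)]
  rw [FreeGroup.lift_mk]
  unfold wordOf ew
  rw [List.map_map]
  congr 1
  apply List.map_congr_left
  intro p _
  rcases p with ⟨x, b⟩
  cases b
  · simp [hγ, hinv]
  · simp [hγ]

theorem coxLabel_comm (edges : List (α × ℕ × α)) (x y : α) :
    coxLabel edges x y = coxLabel edges y x := by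
  unfold coxLabel
  by_cases h : x = y
  · subst h; rfl
  · rw [if_neg h, if_neg (Ne.symm h)]
    have : (fun e : α × ℕ × α => decide ((e.1 = x ∧ e.2.2 = y) ∨ (e.1 = y ∧ e.2.2 = x))) =
        (fun e => decide ((e.1 = y ∧ e.2.2 = x) ∨ (e.1 = x ∧ e.2.2 = y))) := by
      funext e
      rw [decide_eq_decide]
      exact Or.comm
    rw [this]

theorem pow_comm_eq_one {G : Type*} [Group G] (a b : G) (m : ℕ) (h : (b * a) ^ m = 1) :
    (a * b) ^ m = 1 := by
  have h1 : a * b = a * (b * a) * a⁻¹ := by group
  rw [h1, conj_pow, h]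
  group

theorem mem_coxW (edges : List (α × ℕ × α)) (gens : List α) (w : List ℕ) :
    w ∈ coxW edges gens ↔ ∃ x ∈ gens, ∃ y ∈ gens, gens.idxOf x < gens.idxOf y ∧
      w = (List.replicate (coxLabel edges x y) [gens.idxOf x, gens.idxOf y]).flatten := by
  unfold coxW
  simp only [List.mem_flatMap]
  constructor
  · rintro ⟨x, hx, y, hy, h⟩
    by_cases hlt : gens.idxOf x < gens.idxOf y
    · rw [if_pos hlt] at h
      exact ⟨x, hx, y, hy, hlt, by simpa using h⟩
    · rw [if_neg hlt] at h
      exact absurd h (by simp)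
  · rintro ⟨x, hx, y, hy, hlt, rfl⟩
    exact ⟨x, hx, y, hy, by rw [if_pos hlt]; simp⟩

/-- Index and orbit sizes from a certificate, for a Coxeter-style presentation on involutions. -/
theorem cox_main (edges : List (α × ℕ × α)) (extra : List (FreeGroup α))
    (T : Tabs) (gens : List α) (subL : List (FreeGroup α))
    (hC : T.Cert)
    (hK : T.K = gens.length) (hnd : gens.Nodup) (hall : ∀ x : α, x ∈ gens)
    (hnode : ∀ x ∈ gens, x ∈ coxNodes edges)
    (hinv : ∀ l < T.K, T.inv l = l)
    (hrels : T.rels1 = coxW edges gens ++ extra.map (wordOf gens))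
    (hsubs : T.subs = subL.map (wordOf gens)) :
    (((Subgroup.closure {r | r ∈ subL}).map
      (PresentedGroup.mk (coxRelators edges ∪ {r | r ∈ extra}))).index = T.N) ∧
    ∀ c, T.orep c < T.N → T.ol (T.orep c) = c →
      ∃ q : PresentedGroup (coxRelators edges ∪ {r | r ∈ extra}) ⧸
          ((Subgroup.closure {r | r ∈ subL}).map
            (PresentedGroup.mk (coxRelators edges ∪ {r | r ∈ extra}))),
        (MulAction.orbit ((Subgroup.closure {r | r ∈ subL}).map
            (PresentedGroup.mk (coxRelators edges ∪ {r | r ∈ extra}))) q).ncard =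
          countLt (fun v => Nat.beq (T.ol v) c) T.N := by
  set rels := coxRelators edges ∪ {r | r ∈ extra} with hrelsdef
  let γ : α → PresentedGroup rels := fun x => PresentedGroup.of x
  let g : ℕ → PresentedGroup rels := fun l =>
    match gens[l]? with
    | some x => γ x
    | none => 1
  have hidx : ∀ x, gens.idxOf x < gens.length := fun x => List.idxOf_lt_length_of_mem (hall x)
  have hg : ∀ x, g (gens.idxOf x) = γ x := by
    intro x
    show (match gens[gens.idxOf x]? with
      | some x => γ x
      | none => 1) = γ x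
    rw [List.getElem?_eq_getElem (hidx x), List.getElem_idxOf (hidx x)]
  have hgl : ∀ l (hl : l < gens.length), g l = γ gens[l] := by
    intro l hl
    show (match gens[l]? with
      | some x => γ x
      | none => 1) = γ gens[l]
    rw [List.getElem?_eq_getElem hl]
  have hsq : ∀ x, γ x * γ x = 1 := by
    intro x
    have hx := hnode x (hall x)
    have hmem : (FreeGroup.of x * FreeGroup.of x) ^ coxLabel edges x x ∈ rels :=
      Or.inl ⟨x, hx, x, hx, rfl⟩
    have h1 : coxLabel edges x x = 1 := by unfold coxLabel; rw [if_pos rfl]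
    rw [h1, pow_one] at hmem
    have h2 := PresentedGroup.one_of_mem hmem
    rw [map_mul] at h2
    exact h2
  have hγinv : ∀ x, (γ x)⁻¹ = γ x := fun x => inv_eq_of_mul_eq_one_right (hsq x)
  have hmkl : PresentedGroup.mk rels = FreeGroup.lift γ :=
    FreeGroup.ext_hom _ _ (fun a => by rw [FreeGroup.lift_apply_of]; rfl)
  have hmk : ∀ r : FreeGroup α, PresentedGroup.mk rels r = ew g (wordOf gens r) := by
    intro r
    rw [hmkl]
    exact lift_eq_ew gens γ g hg hγinv r
  have hgen : Subgroup.closure {x | ∃ l < T.K, x = g l} = ⊤ := by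
    rw [eq_top_iff, ← PresentedGroup.closure_range_of rels]
    apply Subgroup.closure_mono
    rintro _ ⟨x, rfl⟩
    exact ⟨gens.idxOf x, by rw [hK]; exact hidx x, (hg x).symm⟩
  have hinvg : ∀ l < T.K, g (T.inv l) = (g l)⁻¹ := by
    intro l hl
    rw [hinv l hl, hgl l (by rw [← hK]; exact hl)]
    exact (hγinv _).symm
  have hrel : ∀ w ∈ T.rels1, ew g w = 1 := by
    intro w hw
    rw [hrels] at hw
    rcases List.mem_append.mp hw with h | h
    · obtain ⟨x, hx, y, hy, -, rfl⟩ := (mem_coxW edges gens w).mp h
      rw [ew_rep, ew_cons, ew_cons, ew_nil, mul_one, hg, hg]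
      have hmem : (FreeGroup.of x * FreeGroup.of y) ^ coxLabel edges x y ∈ rels :=
        Or.inl ⟨x, hnode x hx, y, hnode y hy, rfl⟩
      have h2 := PresentedGroup.one_of_mem hmem
      rw [map_pow, map_mul] at h2
      exact h2
    · obtain ⟨r, hr, rfl⟩ := List.mem_map.mp h
      rw [← hmk r]
      exact PresentedGroup.one_of_mem (Or.inr hr)
  have hH : (Subgroup.closure {r | r ∈ subL}).map (PresentedGroup.mk rels) =
      Subgroup.closure {x | ∃ s ∈ T.subs, x = ew g s} := by
    rw [MonoidHom.map_closure]
    congr 1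
    ext x
    constructor
    · rintro ⟨r, hr, rfl⟩
      exact ⟨wordOf gens r, by rw [hsubs]; exact List.mem_map_of_mem hr, hmk r⟩
    · rintro ⟨s, hs, rfl⟩
      rw [hsubs] at hs
      obtain ⟨r, hr, rfl⟩ := List.mem_map.mp hs
      exact ⟨r, hr, hmk r⟩
  have hlift : ∀ hP : T.P1, ∃ φ : PresentedGroup rels →* Equiv.Perm (Fin T.N),
      ∀ l < T.K, φ (g l) = Tabs.sigma hP l := by
    intro hP
    let σ' : α → Equiv.Perm (Fin T.N) := fun x => Tabs.sigma hP (gens.idxOf x)
    have hσinv : ∀ x, (σ' x)⁻¹ = σ' x := by
      intro x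
      have hl : gens.idxOf x < T.K := by rw [hK]; exact hidx x
      have h1 := Tabs.sigma_inv hP _ hl
      rw [hinv _ hl] at h1
      exact h1.symm
    have hliftw : ∀ r, FreeGroup.lift σ' r = ew (Tabs.sigma hP) (wordOf gens r) :=
      lift_eq_ew gens σ' (Tabs.sigma hP) (fun x => rfl) hσinv
    have hpair : ∀ x y, gens.idxOf x < gens.idxOf y →
        (σ' x * σ' y) ^ coxLabel edges x y = 1 := by
      intro x y hlt
      have hmem : (List.replicate (coxLabel edges x y) [gens.idxOf x, gens.idxOf y]).flatten ∈
          T.rels1 := by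
        rw [hrels]
        exact List.mem_append_left _ ((mem_coxW edges gens _).mpr ⟨x, hall x, y, hall y, hlt, rfl⟩)
      have h1 := Tabs.sigma_rel hP _ hmem
      rw [ew_rep, ew_cons, ew_cons, ew_nil, mul_one] at h1
      exact h1
    have hσrel : ∀ r ∈ rels, FreeGroup.lift σ' r = 1 := by
      rintro r (⟨x, hx, y, hy, rfl⟩ | hr)
      · rw [map_pow, map_mul, FreeGroup.lift_apply_of, FreeGroup.lift_apply_of]
        rcases lt_trichotomy (gens.idxOf x) (gens.idxOf y) with hlt | heq | hgt
        · exact hpair x y hlt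
        · have hxy : x = y := (List.idxOf_inj (hall x)).mp heq
          subst hxy
          have h1 : coxLabel edges x x = 1 := by unfold coxLabel; rw [if_pos rfl]
          rw [h1, pow_one]
          have h2 := hσinv x
          calc σ' x * σ' x = (σ' x)⁻¹ * σ' x := by rw [h2]
            _ = 1 := inv_mul_cancel _
        · rw [coxLabel_comm]
          exact pow_comm_eq_one _ _ _ (hpair y x hgt)
      · rw [hliftw]
        exact Tabs.sigma_rel hP _ (by
          rw [hrels]; exact List.mem_append_right _ (List.mem_map_of_mem hr))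
    refine ⟨PresentedGroup.toGroup hσrel, fun l hl => ?_⟩
    have hl' : l < gens.length := by rw [← hK]; exact hl
    rw [hgl l hl']
    show PresentedGroup.toGroup hσrel (PresentedGroup.of gens[l]) = _
    rw [PresentedGroup.toGroup.of]
    show Tabs.sigma hP (gens.idxOf gens[l]) = _
    rw [List.Nodup.idxOf_getElem hnd]
  exact Tabs.final hC hgen hinvg hrel hH hlift

end cox

end Cfsg.Agent.Lib.Helper56.TC
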