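import Mathlib
import Cfsg.Prelude.Def_SporCoxeter
import Cfsg.Agent.Lib.Helper56.TC
import Cfsg.Agent.Lib.Helper56.TCCox
import Cfsg.Agent.Lib.Helper19.TCUp

set_option autoImplicit false

/-!
The generators of a Coxeter-style presented group as a sequence indexed by `ℕ`, the relators as
words, chains of the subgroups generated by initial segments, and the homomorphism to the
permutations of the final names of a coset enumeration certificate.
-/

namespace Cfsg.Agent.Lib.Helper56.TC

open Tabs Cfsg.Spor
open Cfsg.Agent.Lib.Helper19.Cox (L L_mono mem_L L_zero)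

section pres

variable {α : Type} [DecidableEq α] (edges : List (α × ℕ × α)) (extra : List (FreeGroup α))
  (gens : List α)

/-- The generators of the presented group in the order of the list `gens`. -/
noncomputable def pgen (l : ℕ) : CoxPresented α edges extra :=
  match gens[l]? with
  | some x => PresentedGroup.of x
  | none => 1

theorem pgen_of_lt (l : ℕ) (hl : l < gens.length) :
    pgen edges extra gens l = PresentedGroup.of gens[l] := by
  show (match gens[l]? with
    | some x => (PresentedGroup.of x : CoxPresented α edges extra)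
    | none => 1) = _
  rw [List.getElem?_eq_getElem hl]

theorem pgen_of_ge (l : ℕ) (hl : gens.length ≤ l) : pgen edges extra gens l = 1 := by
  show (match gens[l]? with
    | some x => (PresentedGroup.of x : CoxPresented α edges extra)
    | none => 1) = _
  rw [List.getElem?_eq_none hl]

variable {gens}

theorem pgen_idx (hall : ∀ x : α, x ∈ gens) (x : α) :
    pgen edges extra gens (gens.idxOf x) = PresentedGroup.of x := by
  have h := List.idxOf_lt_length_of_mem (hall x)
  rw [pgen_of_lt edges extra gens _ h, List.getElem_idxOf h]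

theorem of_sq (hall : ∀ x : α, x ∈ gens) (hnode : ∀ x ∈ gens, x ∈ coxNodes edges) (x : α) :
    (PresentedGroup.of x : CoxPresented α edges extra) * PresentedGroup.of x = 1 := by
  have hx := hnode x (hall x)
  have hmem : (FreeGroup.of x * FreeGroup.of x) ^ coxLabel edges x x ∈
      coxRelators edges ∪ {r | r ∈ extra} := Or.inl ⟨x, hx, x, hx, rfl⟩
  have h1 : coxLabel edges x x = 1 := by unfold coxLabel; rw [if_pos rfl]
  rw [h1, pow_one] at hmem
  have h2 := PresentedGroup.one_of_mem hmem
  rw [map_mul] at h2
  exact h2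

theorem pgen_sq (hall : ∀ x : α, x ∈ gens) (hnode : ∀ x ∈ gens, x ∈ coxNodes edges) (l : ℕ) :
    pgen edges extra gens l * pgen edges extra gens l = 1 := by
  by_cases hl : l < gens.length
  · rw [pgen_of_lt edges extra gens l hl]
    exact of_sq edges extra hall hnode _
  · rw [pgen_of_ge edges extra gens l (not_lt.mp hl), one_mul]

theorem pgen_mk (hall : ∀ x : α, x ∈ gens) (hnode : ∀ x ∈ gens, x ∈ coxNodes edges)
    (r : FreeGroup α) :
    PresentedGroup.mk (coxRelators edges ∪ {r | r ∈ extra}) r =
      ew (pgen edges extra gens) (wordOf gens r) := by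
  have hmkl : PresentedGroup.mk (coxRelators edges ∪ {r | r ∈ extra}) =
      FreeGroup.lift (fun x => (PresentedGroup.of x : CoxPresented α edges extra)) :=
    FreeGroup.ext_hom _ _ (fun a => by rw [FreeGroup.lift_apply_of]; rfl)
  rw [hmkl]
  exact lift_eq_ew gens _ (pgen edges extra gens) (pgen_idx edges extra hall)
    (fun x => inv_eq_of_mul_eq_one_right (of_sq edges extra hall hnode x)) r

/-- The relators as words hold for the generators. -/
theorem pgen_rel (hall : ∀ x : α, x ∈ gens) (hnode : ∀ x ∈ gens, x ∈ coxNodes edges) :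
    ∀ w ∈ coxW edges gens ++ extra.map (wordOf gens), ew (pgen edges extra gens) w = 1 := by
  intro w hw
  rcases List.mem_append.mp hw with h | h
  · obtain ⟨x, hx, y, hy, -, rfl⟩ := (mem_coxW edges gens w).mp h
    rw [ew_rep, ew_cons, ew_cons, ew_nil, mul_one, pgen_idx edges extra hall,
      pgen_idx edges extra hall]
    have hmem : (FreeGroup.of x * FreeGroup.of y) ^ coxLabel edges x y ∈
        coxRelators edges ∪ {r | r ∈ extra} := Or.inl ⟨x, hnode x hx, y, hnode y hy, rfl⟩
    have h2 := PresentedGroup.one_of_mem hmem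
    rw [map_pow, map_mul] at h2
    exact h2
  · obtain ⟨r, hr, rfl⟩ := List.mem_map.mp h
    rw [← pgen_mk edges extra hall hnode r]
    exact PresentedGroup.one_of_mem (Or.inr hr)

/-- The subgroup generated by the first `k` generators is the image of the subgroup of the free
group generated by the first `k` letters. -/
theorem pgen_L (k : ℕ) (hk : k ≤ gens.length) :
    L (pgen edges extra gens) k =
      (Subgroup.closure {r : FreeGroup α | ∃ x ∈ gens.take k, r = FreeGroup.of x}).map
        (PresentedGroup.mk (coxRelators edges ∪ {r | r ∈ extra})) := by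
  rw [MonoidHom.map_closure]
  unfold L
  congr 1
  ext y
  constructor
  · rintro ⟨l, hl, rfl⟩
    have hl' : l < k := hl
    have hlt : l < gens.length := lt_of_lt_of_le hl' hk
    refine ⟨FreeGroup.of gens[l], ⟨gens[l], ?_, rfl⟩, ?_⟩
    · rw [List.mem_take_iff_getElem]
      exact ⟨l, by rw [Nat.min_eq_left hk]; exact hl', rfl⟩
    · rw [pgen_of_lt edges extra gens l hlt]
      rfl
  · rintro ⟨r, ⟨x, hx, rfl⟩, rfl⟩
    rw [List.mem_take_iff_getElem] at hx
    obtain ⟨l, hl, rfl⟩ := hx
    rw [Nat.min_eq_left hk] at hl
    refine ⟨l, hl, ?_⟩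
    rw [pgen_of_lt edges extra gens l (lt_of_lt_of_le hl hk)]
    rfl

theorem pgen_top (hall : ∀ x : α, x ∈ gens) : L (pgen edges extra gens) gens.length = ⊤ := by
  rw [eq_top_iff, ← PresentedGroup.closure_range_of (coxRelators edges ∪ {r | r ∈ extra})]
  unfold L
  apply Subgroup.closure_mono
  rintro _ ⟨x, rfl⟩
  exact ⟨gens.idxOf x, List.idxOf_lt_length_of_mem (hall x), pgen_idx edges extra hall x⟩

/-- The homomorphism to the permutations of the final names of a table satisfying part 1. -/
theorem cox_hom (T : Tabs) (hP : T.P1)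
    (hK : T.K = gens.length) (hnd : gens.Nodup) (hall : ∀ x : α, x ∈ gens)
    (hinv : ∀ l < T.K, T.inv l = l)
    (hrels : T.rels1 = coxW edges gens ++ extra.map (wordOf gens)) :
    ∃ φ : CoxPresented α edges extra →* Equiv.Perm (Fin T.N),
      ∀ l, φ (pgen edges extra gens l) = Tabs.sigma hP l := by
  have hidx : ∀ x, gens.idxOf x < gens.length := fun x => List.idxOf_lt_length_of_mem (hall x)
  let σ' : α → Equiv.Perm (Fin T.N) := fun x => Tabs.sigma hP (gens.idxOf x)
  have hσinv : ∀ x, (σ' x)⁻¹ = σ' x := by
    intro x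
    have hl : gens.idxOf x < T.K := by rw [hK]; exact hidx x
    have h1 := Tabs.sigma_inv hP _ hl
    rw [hinv _ hl] at h1
    exact h1.symm
  have hliftw : ∀ r, FreeGroup.lift σ' r = ew (Tabs.sigma hP) (wordOf gens r) :=
    lift_eq_ew gens σ' (Tabs.sigma hP) (fun x => rfl) hσinv
  have hpair : ∀ x y, gens.idxOf x < gens.idxOf y →
      (σ' x * σ' y) ^ coxLabel edges x y = 1 := by
    intro x y hlt
    have hmem : (List.replicate (coxLabel edges x y) [gens.idxOf x, gens.idxOf y]).flatten ∈
        T.rels1 := by
      rw [hrels]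
      exact List.mem_append_left _ ((mem_coxW edges gens _).mpr ⟨x, hall x, y, hall y, hlt, rfl⟩)
    have h1 := Tabs.sigma_rel hP _ hmem
    rw [ew_rep, ew_cons, ew_cons, ew_nil, mul_one] at h1
    exact h1
  have hσrel : ∀ r ∈ coxRelators edges ∪ {r | r ∈ extra}, FreeGroup.lift σ' r = 1 := by
    rintro r (⟨x, hx, y, hy, rfl⟩ | hr)
    · rw [map_pow, map_mul, FreeGroup.lift_apply_of, FreeGroup.lift_apply_of]
      rcases lt_trichotomy (gens.idxOf x) (gens.idxOf y) with hlt | heq | hgt
      · exact hpair x y hlt
      · have hxy : x = y := (List.idxOf_inj (hall x)).mp heq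
        subst hxy
        have h1 : coxLabel edges x x = 1 := by unfold coxLabel; rw [if_pos rfl]
        rw [h1, pow_one]
        have h2 := hσinv x
        calc σ' x * σ' x = (σ' x)⁻¹ * σ' x := by rw [h2]
          _ = 1 := inv_mul_cancel _
      · rw [coxLabel_comm]
        exact pow_comm_eq_one _ _ _ (hpair y x hgt)
    · rw [hliftw]
      exact Tabs.sigma_rel hP _ (by
        rw [hrels]; exact List.mem_append_right _ (List.mem_map_of_mem hr))
  refine ⟨PresentedGroup.toGroup hσrel, fun l => ?_⟩
  by_cases hl : l < gens.length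
  · rw [pgen_of_lt edges extra gens l hl]
    show PresentedGroup.toGroup hσrel (PresentedGroup.of gens[l]) = _
    rw [PresentedGroup.toGroup.of]
    show Tabs.sigma hP (gens.idxOf gens[l]) = _
    rw [List.Nodup.idxOf_getElem hnd]
  · rw [pgen_of_ge edges extra gens l (not_lt.mp hl), map_one]
    unfold Tabs.sigma
    rw [dif_neg (by rw [hK]; exact hl)]

end pres

end Cfsg.Agent.Lib.Helper56.TC
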