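import Mathlib
import Cfsg.Agent.Lib.Helper56.TC

set_option autoImplicit false

/-!
Packed data with one record per name (all its slots) and two list levels, for the certificates
of `TC`.
-/

namespace Cfsg.Agent.Lib.Helper56.TC

open Tabs

/-- Record `i` of a packed array with two list levels: `c` records of `w` bits per chunk,
mask `m`, 32 chunks per inner list. -/
noncomputable def recAt2 (A : List (List ℕ)) (c w m i : ℕ) : ℕ :=
  forceN (fun k1 => forceN (fun k2 =>
      Nat.land (Nat.shiftRight (nth 0 (nthL A k1) k2) (Nat.mul (Nat.mod i c) w)) m)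
    (Nat.mod (Nat.div i c) 32)) (Nat.div (Nat.div i c) 32)

/-- The field at offset `o` (mask `fm`) of the record of `x`. -/
noncomputable def fldA (A : List (List ℕ)) (c w m o fm x : ℕ) : ℕ :=
  Nat.land (Nat.shiftRight (recAt2 A c w m x) o) fm

/-- A field of the part of the letter `l` (parts of width `ws`, field offset `o`) in the record
of `x`; `dflt` for the letters `≥ K`. -/
noncomputable def slotFld2 (A : List (List ℕ)) (c w m K ws o fm : ℕ) (dflt : ℕ → ℕ) (l x : ℕ) :
    ℕ :=
  Bool.rec (motive := fun _ => ℕ) (dflt x)
    (Nat.land (Nat.shiftRight (recAt2 A c w m x) (Nat.add (Nat.mul l ws) o)) fm) (Nat.blt l K)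

/-- The same without a bound on the letter. -/
noncomputable def tbFld2 (A : List (List ℕ)) (c w m ws o fm l x : ℕ) : ℕ :=
  Nat.land (Nat.shiftRight (recAt2 A c w m x) (Nat.add (Nat.mul l ws) o)) fm

end Cfsg.Agent.Lib.Helper56.TC
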