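import Mathlib
import Cfsg.Agent.Lib.Helper56.TC

set_option autoImplicit false

/-!
Cheaper checks that the final table satisfies the relators: commuting and braiding pairs of
involutions, and relators of the form `p * u ^ m` through a stored table of the action of `u`.
-/

namespace Cfsg.Agent.Lib.Helper56.TC

open Tabs

/-- Data of the alternative relator checks. -/
structure Alt where
  comm : List (ℕ × ℕ)
  braid : List (ℕ × ℕ)
  pw : List (ℕ × ℕ × List ℕ × List ℕ)
  tau : ℕ → ℕ → ℕ

namespace Alt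

/-- The relator words that the data certifies. -/
def words (A : Alt) : List (List ℕ) :=
  A.comm.map (fun p => [p.1, p.2, p.1, p.2]) ++
  (A.braid.map (fun p => [p.1, p.2, p.1, p.2, p.1, p.2]) ++
   A.pw.map (fun e => e.2.2.1 ++ (List.replicate e.2.1 e.2.2.2).flatten))

end Alt

/-- Conjunction over a list of pairs. -/
noncomputable def allP (f : ℕ → ℕ → Bool) (l : List (ℕ × ℕ)) : Bool :=
  List.rec (motive := fun _ => Bool) true
    (fun p _ ih => Prod.rec (motive := fun _ => Bool) (fun x y => f x y) p && ih) l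

theorem allP_iff (f : ℕ → ℕ → Bool) (l : List (ℕ × ℕ)) :
    allP f l = true ↔ ∀ p ∈ l, f p.1 p.2 = true := by
  induction l with
  | nil => simp [allP]
  | cons p l ih =>
    show (Prod.rec (motive := fun _ => Bool) (fun x y => f x y) p && allP f l) = true ↔ _
    rw [Bool.and_eq_true, ih]
    simp

/-- Conjunction over a list of power entries. -/
noncomputable def allE (f : ℕ → ℕ → List ℕ → List ℕ → Bool)
    (l : List (ℕ × ℕ × List ℕ × List ℕ)) : Bool :=
  List.rec (motive := fun _ => Bool) true
    (fun e _ ih => Prod.rec (motive := fun _ => Bool)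
      (fun k r => Prod.rec (motive := fun _ => Bool)
        (fun m r2 => Prod.rec (motive := fun _ => Bool) (fun p u => f k m p u) r2) r) e && ih) l

theorem allE_iff (f : ℕ → ℕ → List ℕ → List ℕ → Bool) (l : List (ℕ × ℕ × List ℕ × List ℕ)) :
    allE f l = true ↔ ∀ e ∈ l, f e.1 e.2.1 e.2.2.1 e.2.2.2 = true := by
  induction l with
  | nil => simp [allE]
  | cons e l ih =>
    show (Prod.rec (motive := fun _ => Bool)
      (fun k r => Prod.rec (motive := fun _ => Bool)
        (fun m r2 => Prod.rec (motive := fun _ => Bool) (fun p u => f k m p u) r2) r) e &&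
      allE f l) = true ↔ _
    rw [Bool.and_eq_true, ih]
    simp

/-- Iterate a function, evaluating each value. -/
noncomputable def iterF (f : ℕ → ℕ) (m : ℕ) (v : ℕ) : ℕ :=
  Nat.rec (motive := fun _ => ℕ) v (fun _ ih => forceN f ih) m

theorem iterF_zero (f : ℕ → ℕ) (v : ℕ) : iterF f 0 v = v := rfl

theorem iterF_succ (f : ℕ → ℕ) (m v : ℕ) : iterF f (m + 1) v = f (iterF f m v) := by
  show forceN f (iterF f m v) = _
  rw [forceN_eq]

/-- The checks of part 1 at a final name without the relators. -/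
noncomputable def chk1a (T : Tabs) (v : ℕ) : Bool :=
  allLt (fun l => Nat.blt (T.tb l v) T.N && Nat.beq (T.tb (T.inv l) (T.tb l v)) v) T.K &&
   (Nat.beq v 0 || (Nat.blt (T.tpl v) T.K &&
      Nat.blt (T.tdep (T.tb (T.inv (T.tpl v)) v)) (T.tdep v)))

/-- The alternative relator checks at a final name. -/
noncomputable def chkAlt (T : Tabs) (A : Alt) (v : ℕ) : Bool :=
  allP (fun x y => Nat.beq (forceN (T.tb x) (T.tb y v)) (forceN (T.tb y) (T.tb x v))) A.comm &&
  (allP (fun x y => Nat.beq (forceN (T.tb x) (forceN (T.tb y) (T.tb x v)))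
      (forceN (T.tb y) (forceN (T.tb x) (T.tb y v)))) A.braid &&
   allE (fun k m p u => Nat.beq (A.tau k v) (T.followT u v) &&
      Nat.beq (T.followT p (iterF (A.tau k) m v)) v) A.pw)

/-- All checks at a final name, with the alternative relator checks. -/
noncomputable def chkV2 (T : Tabs) (A : Alt) (v : ℕ) : Bool :=
  T.chkFinName v && (chk1a T v && (chkAlt T A v && T.chkO v))

section sound

variable {T : Tabs} {A : Alt}

theorem followT_lt_of (h1 : ∀ l < T.K, ∀ v < T.N, T.tb l v < T.N) (w : List ℕ)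
    (hw : ∀ a ∈ w, a < T.K) (v : ℕ) (hv : v < T.N) : T.followT w v < T.N := by
  induction w with
  | nil => exact hv
  | cons a w ih =>
    rw [followT_cons]
    exact h1 a (hw a List.mem_cons_self) _ (ih (fun b hb => hw b (List.mem_cons_of_mem _ hb)))

theorem followT_rep (u : List ℕ) (m v : ℕ) :
    T.followT (List.replicate m u).flatten v = iterF (T.followT u) m v := by
  induction m with
  | zero => rfl
  | succ m ih =>
    rw [List.replicate_succ, List.flatten_cons, followT_append, ih, iterF_succ]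

theorem iterF_congr (f f' : ℕ → ℕ) (N : ℕ) (hf : ∀ v < N, f v = f' v) (hlt : ∀ v < N, f' v < N)
    (m v : ℕ) (hv : v < N) : iterF f m v = iterF f' m v ∧ iterF f' m v < N := by
  induction m with
  | zero => exact ⟨rfl, hv⟩
  | succ m ih =>
    rw [iterF_succ, iterF_succ, ih.1]
    exact ⟨hf _ ih.2, hlt _ ih.2⟩

/-- Soundness of the alternative checks: every certified word fixes every final name. -/
theorem alt_sound
    (hV : ∀ v < T.N, chk1a T v = true ∧ chkAlt T A v = true)
    (hAc : ∀ p ∈ A.comm ++ A.braid, p.1 < T.K ∧ p.2 < T.K ∧ T.inv p.1 = p.1 ∧ T.inv p.2 = p.2)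
    (hAp : ∀ e ∈ A.pw, (∀ a ∈ e.2.2.1, a < T.K) ∧ (∀ a ∈ e.2.2.2, a < T.K))
    (w : List ℕ) (hw : w ∈ A.words) (v : ℕ) (hv : v < T.N) : T.followT w v = v := by
  have h1 : ∀ l < T.K, ∀ v < T.N, T.tb l v < T.N := by
    intro l hl v hv
    have h := (hV v hv).1
    unfold chk1a at h
    simp only [Bool.and_eq_true] at h
    have h2 := (allLt_iff _ _).mp h.1 l hl
    simp only [Bool.and_eq_true] at h2
    exact blt_true h2.1
  have h2 : ∀ l < T.K, ∀ v < T.N, T.tb (T.inv l) (T.tb l v) = v := by
    intro l hl v hv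
    have h := (hV v hv).1
    unfold chk1a at h
    simp only [Bool.and_eq_true] at h
    have h2 := (allLt_iff _ _).mp h.1 l hl
    simp only [Bool.and_eq_true] at h2
    exact beq_true h2.2
  unfold Alt.words at hw
  rcases List.mem_append.mp hw with hc | hw
  · obtain ⟨p, hp, rfl⟩ := List.mem_map.mp hc
    obtain ⟨hx, hy, hix, hiy⟩ := hAc p (List.mem_append_left _ hp)
    have hxx : ∀ v < T.N, T.tb p.1 (T.tb p.1 v) = v := by
      intro v hv
      have := h2 p.1 hx v hv
      rwa [hix] at this
    have hyy : ∀ v < T.N, T.tb p.2 (T.tb p.2 v) = v := by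
      intro v hv
      have := h2 p.2 hy v hv
      rwa [hiy] at this
    have hcm : ∀ v < T.N, T.tb p.1 (T.tb p.2 v) = T.tb p.2 (T.tb p.1 v) := by
      intro v hv
      have h := (hV v hv).2
      unfold chkAlt at h
      simp only [Bool.and_eq_true] at h
      have h3 := (allP_iff _ _).mp h.1 p hp
      rw [forceN_eq, forceN_eq] at h3
      exact beq_true h3
    simp only [followT_cons, followT_nil]
    have h3 := hcm (T.tb p.2 v) (h1 p.2 hy v hv)
    rw [hyy v hv] at h3
    rw [← h3]
    exact hxx v hv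
  rcases List.mem_append.mp hw with hb | hw
  · obtain ⟨p, hp, rfl⟩ := List.mem_map.mp hb
    obtain ⟨hx, hy, hix, hiy⟩ := hAc p (List.mem_append_right _ hp)
    have hxx : ∀ v < T.N, T.tb p.1 (T.tb p.1 v) = v := by
      intro v hv
      have := h2 p.1 hx v hv
      rwa [hix] at this
    have hyy : ∀ v < T.N, T.tb p.2 (T.tb p.2 v) = v := by
      intro v hv
      have := h2 p.2 hy v hv
      rwa [hiy] at this
    have hbr : ∀ v < T.N, T.tb p.1 (T.tb p.2 (T.tb p.1 v)) = T.tb p.2 (T.tb p.1 (T.tb p.2 v)) := by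
      intro v hv
      have h := (hV v hv).2
      unfold chkAlt at h
      simp only [Bool.and_eq_true] at h
      have h3 := (allP_iff _ _).mp h.2.1 p hp
      rw [forceN_eq, forceN_eq, forceN_eq, forceN_eq] at h3
      exact beq_true h3
    simp only [followT_cons, followT_nil]
    rw [← hbr v hv, hxx _ (h1 p.2 hy _ (h1 p.1 hx v hv)), hyy _ (h1 p.1 hx v hv)]
    exact hxx v hv
  · obtain ⟨e, he, rfl⟩ := List.mem_map.mp hw
    obtain ⟨hpK, huK⟩ := hAp e he
    have htau : ∀ v < T.N, A.tau e.1 v = T.followT e.2.2.2 v := by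
      intro v hv
      have h := (hV v hv).2
      unfold chkAlt at h
      simp only [Bool.and_eq_true] at h
      have h3 := (allE_iff _ _).mp h.2.2 e he
      simp only [Bool.and_eq_true] at h3
      exact beq_true h3.1
    have hfix : T.followT e.2.2.1 (iterF (A.tau e.1) e.2.1 v) = v := by
      have h := (hV v hv).2
      unfold chkAlt at h
      simp only [Bool.and_eq_true] at h
      have h3 := (allE_iff _ _).mp h.2.2 e he
      simp only [Bool.and_eq_true] at h3
      exact beq_true h3.2
    rw [followT_append, followT_rep]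
    have h5 := iterF_congr (A.tau e.1) (T.followT e.2.2.2) T.N htau
      (fun v hv => followT_lt_of h1 _ huK v hv) e.2.1 v hv
    rw [← h5.1]
    exact hfix

/-- A certificate from the alternative checks. -/
theorem cert_of_alt (h0 : T.chk0 = true) (hrx : T.rx = T.relsX)
    (hs0 : allW (fun s => Nat.beq (T.followT s 0) 0) T.subs = true)
    (hname : ∀ x < T.N', T.chkName x = true)
    (hAc : ∀ p ∈ A.comm ++ A.braid, p.1 < T.K ∧ p.2 < T.K ∧ T.inv p.1 = p.1 ∧ T.inv p.2 = p.2)
    (hAp : ∀ e ∈ A.pw, (∀ a ∈ e.2.2.1, a < T.K) ∧ (∀ a ∈ e.2.2.2, a < T.K))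
    (hcover : ∀ w ∈ T.rels1, w ∈ A.words)
    (hV2 : ∀ v < T.N, chkV2 T A v = true) : T.Cert := by
  have hparts : ∀ v < T.N, T.chkFinName v = true ∧ chk1a T v = true ∧ chkAlt T A v = true ∧
      T.chkO v = true := by
    intro v hv
    have h := hV2 v hv
    unfold chkV2 at h
    simp only [Bool.and_eq_true] at h
    exact ⟨h.1, h.2.1, h.2.2.1, h.2.2.2⟩
  have hrelfix : ∀ w ∈ T.rels1, ∀ v < T.N, T.followT w v = v := by
    intro w hw v hv
    exact alt_sound (fun v hv => ⟨(hparts v hv).2.1, (hparts v hv).2.2.1⟩) hAc hAp w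
      (hcover w hw) v hv
  refine { h0 := h0, hrx := hrx, hs0 := hs0, hname := hname, hV := ?_ }
  intro v hv
  obtain ⟨hf, h1a, -, hO⟩ := hparts v hv
  unfold chkV
  rw [hf, hO]
  have h1 : T.chk1 v = true := by
    unfold chk1a at h1a
    simp only [Bool.and_eq_true] at h1a
    unfold chk1
    rw [Bool.and_eq_true, Bool.and_eq_true]
    refine ⟨h1a.1, ?_, h1a.2⟩
    rw [allW_iff]
    intro w hw
    rw [hrelfix w hw v hv]
    exact Nat.beq_refl v
  rw [h1]
  rfl

end sound

end Cfsg.Agent.Lib.Helper56.TC
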