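import Mathlib
import Cfsg.Agent.Lib.Helper56.TC
import Cfsg.Agent.Lib.Helper56.TCAlt
import Cfsg.Agent.Lib.Helper19.FastPerm
import Cfsg.Agent.Lib.Helper19.PermCert

set_option autoImplicit false

/-!
The permutation group on the final names of a coset enumeration certificate: orders of elements,
orbit certificates, lower bounds for the order from stabiliser chains, primitivity of rank three
and simplicity.
-/

namespace Cfsg.Agent.Lib.Helper56.TC

open Tabs Equiv MulAction
open Cfsg.Agent.Lib.Helper19.Cox (L L_mono mem_L L_zero)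

section perm

variable {T : Tabs} (hP : T.P1)

theorem sigma_of_ge (l : ℕ) (hl : T.K ≤ l) : sigma hP l = 1 := by
  unfold sigma
  rw [dif_neg (not_lt.mpr hl)]

theorem sigma_sq (hinv : ∀ l < T.K, T.inv l = l) (l : ℕ) : sigma hP l * sigma hP l = 1 := by
  by_cases hl : l < T.K
  · have h := sigma_inv hP l hl
    rw [hinv l hl] at h
    calc sigma hP l * sigma hP l = (sigma hP l)⁻¹ * sigma hP l := by rw [← h]
      _ = 1 := inv_mul_cancel _
  · rw [sigma_of_ge hP l (not_lt.mp hl), one_mul]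

theorem ew_mem_L {G : Type*} [Group G] (s : ℕ → G) (w : List ℕ) (k : ℕ) (hw : ∀ a ∈ w, a < k) :
    ew s w ∈ L s k := by
  induction w with
  | nil => exact one_mem _
  | cons a w ih =>
    rw [ew_cons]
    exact mul_mem (mem_L s (hw a List.mem_cons_self))
      (ih (fun b hb => hw b (List.mem_cons_of_mem _ hb)))

theorem ew_reverse {G : Type*} [Group G] (s : ℕ → G) (hs : ∀ i, s i * s i = 1) (w : List ℕ) :
    ew s w.reverse = (ew s w)⁻¹ := by
  induction w with
  | nil => simp [ew]
  | cons a w ih =>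
    rw [List.reverse_cons, ew_append, ih, ew_cons, ew_cons, ew_nil, mul_one, mul_inv_rev]
    congr 1
    exact eq_inv_of_mul_eq_one_left (hs a)

/-- A point of `Fin T.N` from a natural number. -/
def ptOf (b : ℕ) : Fin T.N := if h : b < T.N then ⟨b, h⟩ else ⟨0, hP.hN⟩

theorem ptOf_val (b : ℕ) (hb : b < T.N) : (ptOf hP b).val = b := by
  unfold ptOf
  rw [dif_pos hb]

theorem ew_sigma_mem_stab (w : List ℕ) (hw : ∀ a ∈ w, a < T.K) (y : Fin T.N)
    (hy : T.followT w y.val = y.val) :
    ew (sigma hP) w ∈ stabilizer (Perm (Fin T.N)) y := by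
  rw [mem_stabilizer_iff, Perm.smul_def]
  apply Fin.ext
  rw [ew_sigma hP w hw, hy]

/-! ### Powers -/

/-- The `p`-th power of the word `w` fixes the final name `v`. -/
noncomputable def chkPow (T : Tabs) (w : List ℕ) (p : ℕ) (v : ℕ) : Bool :=
  Nat.beq (iterF (T.followT w) p v) v

theorem sigma_pow (w : List ℕ) (hw : ∀ a ∈ w, a < T.K) (p : ℕ)
    (h : ∀ v < T.N, chkPow T w p v = true) : (ew (sigma hP) w) ^ p = 1 := by
  have hit : ∀ (m : ℕ) (x : Fin T.N),
      ((((ew (sigma hP) w) ^ m) x : Fin T.N) : ℕ) = iterF (T.followT w) m x.val := by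
    intro m
    induction m with
    | zero => intro x; rfl
    | succ m ih =>
      intro x
      rw [pow_succ', Perm.mul_apply, ew_sigma hP w hw, ih, iterF_succ]
  apply Equiv.ext
  intro x
  apply Fin.ext
  rw [hit, Perm.one_apply]
  exact beq_true (h x.val x.2)

/-! ### Orbit certificates -/

/-- An orbit certificate: the points `O c` (`c < m`) are distinct and are reached from the first
one along a tree whose edges are labelled by the words `gw j` (`j < ng`). -/
structure Orb where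
  m : ℕ
  ng : ℕ
  gw : ℕ → List ℕ
  par : ℕ → ℕ
  gen : ℕ → ℕ
  O : ℕ → ℕ
  Inv : ℕ → ℕ

/-- The check of an orbit certificate at the index `c`. -/
noncomputable def chkOrb (T : Tabs) (R : Orb) (ω : ℕ) (c : ℕ) : Bool :=
  ((Nat.beq c 0 && Nat.beq (R.O c) ω) ||
    (Nat.blt (R.par c) c && (Nat.blt (R.gen c) R.ng &&
      Nat.beq (R.O c) (T.followT (R.gw (R.gen c)) (R.O (R.par c)))))) &&
  Nat.beq (R.Inv (R.O c)) c

theorem orb_inj {R : Orb} {ω : ℕ} (h : ∀ c < R.m, chkOrb T R ω c = true) :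
    ∀ c < R.m, ∀ c' < R.m, R.O c = R.O c' → c = c' := by
  intro c hc c' hc' heq
  have h1 := h c hc
  have h2 := h c' hc'
  unfold chkOrb at h1 h2
  simp only [Bool.and_eq_true] at h1 h2
  rw [← beq_true h1.2, ← beq_true h2.2, heq]

theorem orb_reach {R : Orb} {ω : ℕ} (h : ∀ c < R.m, chkOrb T R ω c = true)
    (hgw : ∀ j < R.ng, ∀ a ∈ R.gw j, a < T.K)
    (K : Subgroup (Perm (Fin T.N))) (hK : ∀ j < R.ng, ew (sigma hP) (R.gw j) ∈ K)
    (ω' : Fin T.N) (hω : ω'.val = ω) :
    ∀ c < R.m, ∃ g ∈ K, ((g ω' : Fin T.N) : ℕ) = R.O c := by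
  intro c
  induction c using Nat.strong_induction_on with
  | _ c ih =>
    intro hc
    have h1 := h c hc
    unfold chkOrb at h1
    simp only [Bool.and_eq_true, Bool.or_eq_true] at h1
    rcases h1.1 with ⟨-, h0⟩ | ⟨hp, hg, hO⟩
    · exact ⟨1, one_mem _, by rw [Perm.one_apply, hω, beq_true h0]⟩
    · have hp' := blt_true hp
      have hg' := blt_true hg
      obtain ⟨g, hgK, hgO⟩ := ih (R.par c) hp' (lt_trans hp' hc)
      refine ⟨ew (sigma hP) (R.gw (R.gen c)) * g, mul_mem (hK _ hg') hgK, ?_⟩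
      rw [Perm.mul_apply, ew_sigma hP _ (hgw _ hg'), hgO]
      exact (beq_true hO).symm

/-- Lower bound from an orbit certificate. -/
theorem orb_lower {R : Orb} {ω : ℕ} (h : ∀ c < R.m, chkOrb T R ω c = true)
    (hgw : ∀ j < R.ng, ∀ a ∈ R.gw j, a < T.K)
    (K : Subgroup (Perm (Fin T.N))) (hK : ∀ j < R.ng, ew (sigma hP) (R.gw j) ∈ K)
    (ω' : Fin T.N) (hω : ω'.val = ω) :
    R.m * Nat.card (K ⊓ stabilizer (Perm (Fin T.N)) ω' : Subgroup (Perm (Fin T.N))) ≤
      Nat.card K :=
  Cfsg.Agent.Lib.Helper19.FP.orbit_lower K ω' R.m R.O (orb_inj h)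
    (orb_reach hP h hgw K hK ω' hω)

/-! ### Stabiliser chains -/

/-- The pointwise stabiliser of a list of points in the group generated by the letters. -/
noncomputable def stabs : List ℕ → Subgroup (Perm (Fin T.N))
  | [] => L (sigma hP) T.K
  | b :: bs => stabs bs ⊓ stabilizer (Perm (Fin T.N)) (ptOf hP b)

theorem ew_mem_stabs (w : List ℕ) (hw : ∀ a ∈ w, a < T.K) (bs : List ℕ)
    (hb : ∀ b ∈ bs, b < T.N ∧ T.followT w b = b) : ew (sigma hP) w ∈ stabs hP bs := by
  induction bs with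
  | nil => exact ew_mem_L _ w T.K hw
  | cons b bs ih =>
    refine Subgroup.mem_inf.mpr ⟨ih (fun c hc => hb c (List.mem_cons_of_mem _ hc)), ?_⟩
    obtain ⟨h1, h2⟩ := hb b List.mem_cons_self
    apply ew_sigma_mem_stab hP w hw
    rw [ptOf_val hP b h1, h2]

/-- One step of a stabiliser chain. -/
theorem chain_step (bs : List ℕ) (R : Orb) (ω : ℕ) (hω : ω < T.N)
    (hc : ∀ c < R.m, chkOrb T R ω c = true)
    (hg : ∀ j < R.ng, (∀ a ∈ R.gw j, a < T.K) ∧
      ∀ b ∈ bs, b < T.N ∧ T.followT (R.gw j) b = b) :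
    R.m * Nat.card (stabs hP (ω :: bs)) ≤ Nat.card (stabs hP bs) :=
  orb_lower hP hc (fun j hj => (hg j hj).1) (stabs hP bs)
    (fun j hj => ew_mem_stabs hP _ (hg j hj).1 bs (hg j hj).2) (ptOf hP ω) (ptOf_val hP ω hω)

/-! ### Primitivity of rank three -/

/-- Membership in the orbit of a certificate. -/
noncomputable def inOrb (R : Orb) (y : ℕ) : Bool :=
  forceN (fun c => Nat.blt c R.m && Nat.beq (R.O c) y) (R.Inv y)

theorem inOrb_iff (R : Orb) (y : ℕ) :
    inOrb R y = true ↔ R.Inv y < R.m ∧ R.O (R.Inv y) = y := by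
  unfold inOrb
  rw [forceN_eq, Bool.and_eq_true]
  constructor
  · intro h
    exact ⟨blt_true h.1, beq_true h.2⟩
  · intro h
    refine ⟨Nat.blt_eq.mpr h.1, ?_⟩
    rw [h.2]
    exact Nat.beq_refl y

theorem countLt_succ (q : ℕ → Bool) (n : ℕ) :
    countLt q (n + 1) = countLt q n + (if q n = true then 1 else 0) := by
  unfold countLt
  rw [countAcc_eq, countAcc_eq, Finset.range_add_one, Finset.filter_insert]
  by_cases h : q n = true
  · rw [if_pos h, if_pos h, Finset.card_insert_of_notMem (by simp)]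
    omega
  · rw [if_neg h, if_neg h]
    omega

theorem length_filter_finRange (n : ℕ) (q : ℕ → Bool) :
    ((List.finRange n).filter fun y => q y.val).length = countLt q n := by
  rw [← List.countP_eq_length_filter]
  have h1 : (List.finRange n).countP (fun y => q y.val) = (List.range n).countP q := by
    rw [← List.map_coe_finRange_eq_range, List.countP_map]
    rfl
  rw [h1]
  clear h1
  induction n with
  | zero => simp [countLt, countAcc]
  | succ n ih =>
    rw [List.range_succ, List.countP_append, ih, countLt_succ]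
    simp [List.countP_cons]

/-- Primitivity of the group of the letters from two orbit certificates for words fixing the
name `0`. -/
theorem prim_rank3 (RA RB : Orb) (ωA ωB : ℕ) (hωA : ωA < T.N) (hωB : ωB < T.N)
    (hA : ∀ c < RA.m, chkOrb T RA ωA c = true) (hB : ∀ c < RB.m, chkOrb T RB ωB c = true)
    (hgA : ∀ j < RA.ng, (∀ a ∈ RA.gw j, a < T.K) ∧
      ∀ b ∈ [0], b < T.N ∧ T.followT (RA.gw j) b = b)
    (hgB : ∀ j < RB.ng, (∀ a ∈ RB.gw j, a < T.K) ∧
      ∀ b ∈ [0], b < T.N ∧ T.followT (RB.gw j) b = b)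
    (hcover : ∀ y < T.N, (Nat.beq y 0 || (inOrb RA y || inOrb RB y)) = true)
    (h0A : inOrb RA 0 = false) (h0B : inOrb RB 0 = false)
    (hdA : ¬ (countLt (inOrb RA) T.N + 1) ∣ T.N) (hdB : ¬ (countLt (inOrb RB) T.N + 1) ∣ T.N) :
    IsPreprimitive (L (sigma hP) T.K) (Fin T.N) := by
  set G := L (sigma hP) T.K with hG
  set b : Fin T.N := ptOf hP 0 with hb
  have hbv : b.val = 0 := ptOf_val hP 0 hP.hN
  let OA : List (Fin T.N) := (List.finRange T.N).filter fun y => inOrb RA y.val
  let OB : List (Fin T.N) := (List.finRange T.N).filter fun y => inOrb RB y.val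
  have key : ∀ (R : Orb) (ω : ℕ) (hω : ω < T.N) (hc : ∀ c < R.m, chkOrb T R ω c = true)
      (hg : ∀ j < R.ng, (∀ a ∈ R.gw j, a < T.K) ∧
        ∀ b ∈ [0], b < T.N ∧ T.followT (R.gw j) b = b),
      ∀ y : Fin T.N, inOrb R y.val = true → ∀ z : Fin T.N, inOrb R z.val = true →
        ∃ h ∈ G, h b = b ∧ h y = z := by
    intro R ω hω hc hg
    have hr := orb_reach hP hc (fun j hj => (hg j hj).1) (stabs hP [0])
      (fun j hj => ew_mem_stabs hP _ (hg j hj).1 [0] (hg j hj).2) (ptOf hP ω) (ptOf_val hP ω hω)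
    have k2 : ∀ y : Fin T.N, inOrb R y.val = true → ∃ g ∈ stabs hP [0], g (ptOf hP ω) = y := by
      intro y hy
      obtain ⟨h1, h2⟩ := (inOrb_iff R y.val).mp hy
      obtain ⟨g, hg, hgv⟩ := hr _ h1
      exact ⟨g, hg, Fin.ext (by rw [hgv, h2])⟩
    intro y hy z hz
    obtain ⟨g1, hg1, hg1y⟩ := k2 y hy
    obtain ⟨g2, hg2, hg2z⟩ := k2 z hz
    have hmem : g2 * g1⁻¹ ∈ stabs hP [0] := mul_mem hg2 (inv_mem hg1)
    have hmem' := Subgroup.mem_inf.mp hmem
    refine ⟨g2 * g1⁻¹, hmem'.1, ?_, ?_⟩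
    · have := hmem'.2
      rwa [mem_stabilizer_iff, Perm.smul_def] at this
    · rw [Perm.mul_apply, ← hg1y, Perm.inv_eq_iff_eq.mpr rfl, hg2z]
  apply Cfsg.Agent.Lib.Helper19.BSGS.preprimitive_rank3 G b OA OB
  · intro y
    have h := hcover y.val y.2
    simp only [Bool.or_eq_true] at h
    rcases h with h | h | h
    · exact Or.inl (Fin.ext (by rw [hbv]; exact beq_true h))
    · exact Or.inr (Or.inl (List.mem_filter.mpr ⟨List.mem_finRange y, h⟩))
    · exact Or.inr (Or.inr (List.mem_filter.mpr ⟨List.mem_finRange y, h⟩))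
  · intro h
    have h' : inOrb RA b.val = true := (List.mem_filter.mp h).2
    rw [hbv, h0A] at h'
    exact Bool.false_ne_true h'
  · intro h
    have h' : inOrb RB b.val = true := (List.mem_filter.mp h).2
    rw [hbv, h0B] at h'
    exact Bool.false_ne_true h'
  · exact (List.nodup_finRange _).filter _
  · exact (List.nodup_finRange _).filter _
  · intro y
    obtain ⟨w, hw, hf⟩ := sigma_trans hP y.val y.2
    refine ⟨ew (sigma hP) w, ew_mem_L _ w T.K hw, Fin.ext ?_⟩
    rw [ew_sigma hP w hw, hbv, hf]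
  · intro y hy z hz
    exact key RA ωA hωA hA hgA y (List.mem_filter.mp hy).2 z (List.mem_filter.mp hz).2
  · intro y hy z hz
    exact key RB ωB hωB hB hgB y (List.mem_filter.mp hy).2 z (List.mem_filter.mp hz).2
  · rw [length_filter_finRange]
    exact hdA
  · rw [length_filter_finRange]
    exact hdB

end perm

end Cfsg.Agent.Lib.Helper56.TC
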