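import Mathlib
import Cfsg.Agent.Lib.Helper56.TCPres
import Cfsg.Agent.Lib.Helper56.TCPerm

set_option autoImplicit false

/-!
Simplicity and order of a Coxeter-style presented group from a coset enumeration certificate:
the normal closure argument along the braid relations, and the final assembly.
-/

namespace Cfsg.Agent.Lib.Helper56.TC

open Tabs Equiv MulAction Cfsg.Spor
open Cfsg.Agent.Lib.Helper19.Cox (L L_mono mem_L L_zero)

/-- A primitive permutation group `G` on `α` such that the full `p`-part of `|G|` divides `|α|`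
and the elements of order dividing `p` generate `G` as a normal subgroup, is simple. -/
theorem simple_of_primitive_pow {α : Type*} [Finite α] (G : Subgroup (Perm α))
    [IsPreprimitive G α]
    (p a : ℕ) (hp : p.Prime) (hα : p ^ a ∣ Nat.card α) (hG : ¬ p ^ (a + 1) ∣ Nat.card G)
    (hncl : ∀ N : Subgroup G, N.Normal → (∀ x : G, x ^ p = 1 → x ∈ N) → N = ⊤)
    (hnt : Nontrivial G) : IsSimpleGroup G := by
  refine { exists_pair_ne := hnt.exists_pair_ne, eq_bot_or_eq_top_of_normal := ?_ }
  intro N hN
  by_cases hbot : N = ⊥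
  · exact Or.inl hbot
  · right
    apply hncl N hN
    intro x hx
    apply Cfsg.Agent.Lib.Helper19.BSGS.mem_of_pow_eq_one N p hp _ x hx
    intro hdvd
    apply hG
    have h1 : p ^ a ∣ Nat.card N :=
      dvd_trans hα (Cfsg.Agent.Lib.Helper19.BSGS.card_dvd_of_normal G N hbot)
    have h2 := Subgroup.card_mul_index N
    rw [← h2, pow_succ]
    exact mul_dvd_mul h1 hdvd

section ncl

variable {T : Tabs} (hP : T.P1)

/-- If the letter `0` is a product of two elements of order dividing `p` and every other letter
is joined to an earlier one by a braid relation, then the elements of order dividing `p`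
generate the group of the letters as a normal subgroup. -/
theorem ncl_braid (hinv : ∀ l < T.K, T.inv l = l) (p : ℕ) (wy : List ℕ)
    (hwy : ∀ a ∈ wy, a < T.K) (hK0 : 0 < T.K)
    (hy : ∀ v < T.N, chkPow T wy p v = true)
    (hz : ∀ v < T.N, chkPow T (wy.reverse ++ [0]) p v = true)
    (htree : ∀ i < T.K, i = 0 ∨ ∃ j < i, [j, i, j, i, j, i] ∈ T.rels1) :
    ∀ N : Subgroup (L (sigma hP) T.K), N.Normal →
      (∀ x : L (sigma hP) T.K, x ^ p = 1 → x ∈ N) → N = ⊤ := by
  set s := sigma hP with hsdef
  intro N hN hp
  have hs : ∀ i, s i * s i = 1 := sigma_sq hP hinv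
  have hsi : ∀ i, (s i)⁻¹ = s i := fun i => inv_eq_of_mul_eq_one_right (hs i)
  have hz' : ∀ a ∈ wy.reverse ++ [0], a < T.K := by
    intro a ha
    rcases List.mem_append.mp ha with h | h
    · exact hwy a (List.mem_reverse.mp h)
    · rw [List.mem_singleton.mp h]; exact hK0
  let S : ∀ i, i < T.K → L s T.K := fun i hi => ⟨s i, mem_L s hi⟩
  let Y : L s T.K := ⟨ew s wy, ew_mem_L s wy T.K hwy⟩
  let Z : L s T.K := ⟨ew s (wy.reverse ++ [0]), ew_mem_L s _ T.K hz'⟩
  have hY : Y ^ p = 1 := by
    apply Subtype.ext
    rw [Subgroup.coe_pow, Subgroup.coe_one]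
    exact sigma_pow hP wy hwy p hy
  have hZ : Z ^ p = 1 := by
    apply Subtype.ext
    rw [Subgroup.coe_pow, Subgroup.coe_one]
    exact sigma_pow hP _ hz' p hz
  have hS0 : S 0 hK0 = Y * Z := by
    apply Subtype.ext
    show s 0 = ew s wy * ew s (wy.reverse ++ [0])
    rw [ew_append, ew_reverse s hs, ew_cons, ew_nil, mul_one, mul_inv_cancel_left]
  have hall : ∀ i (hi : i < T.K), S i hi ∈ N := by
    intro i
    induction i using Nat.strong_induction_on with
    | _ i ih =>
      intro hi
      rcases htree i hi with rfl | ⟨j, hj, hmem⟩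
      · rw [hS0]
        exact N.mul_mem (hp _ hY) (hp _ hZ)
      · have hjK : j < T.K := lt_trans hj hi
        have hjN := ih j hj hjK
        have hrel := sigma_rel hP _ hmem
        simp only [ew_cons, ew_nil, mul_one] at hrel
        have hrel' : s j * (s i * (s j * (s i * (s j * s i)))) = 1 := hrel
        have hconj : S i hi = (S j hjK * S i hi) * S j hjK * (S j hjK * S i hi)⁻¹ := by
          apply Subtype.ext
          show s i = (s j * s i) * s j * (s j * s i)⁻¹
          rw [mul_inv_rev, hsi, hsi]
          have h2 : s j * s i * s j * (s i * s j) * s i = 1 := by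
            rw [← hrel']
            simp only [mul_assoc]
          have h3 : s j * s i * s j * (s i * s j) = (s i)⁻¹ := eq_inv_of_mul_eq_one_left h2
          rw [h3, hsi]
        rw [hconj]
        exact hN.conj_mem _ hjN _
  rw [eq_top_iff]
  rintro ⟨g, hg⟩ -
  have key : ∀ g (hg : g ∈ L s T.K), (⟨g, hg⟩ : L s T.K) ∈ N := by
    intro g hg
    unfold L at hg
    induction hg using Subgroup.closure_induction with
    | mem y hy =>
      obtain ⟨i, hi, rfl⟩ := hy
      exact hall i hi
    | one => exact N.one_mem
    | mul a b ha hb iha ihb => exact N.mul_mem iha ihb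
    | inv a ha iha => exact N.inv_mem iha
  exact key g hg

end ncl

/-- A certificate for the first `k + 1` letters over the first `k` gives the hypotheses of the
chain step. -/
theorem checked_of_cert {T : Tabs} (hC : T.Cert) (k : ℕ) (hK : T.K = k + 1)
    (hinv : ∀ l < T.K, T.inv l = l) (hsubs : T.subs = (List.range k).map (fun i => [i])) :
    Cfsg.Agent.Lib.Helper19.TCU.Checked T k :=
  have hP := hC.p1
  { hK := hK
    hN := hP.hN
    hNN := hP.hNN
    hinv := hinv
    hsubs := hsubs
    hrelK := hP.hrelK
    hrx := hC.hrx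
    hchk := hC.hname
    hfin := fun v hv => by
      have h := hC.hV v hv
      unfold chkV at h
      simp only [Bool.and_eq_true] at h
      exact h.1 }

/-- One step of the chain of the subgroups generated by initial segments of the letters. -/
theorem chain_upper {G : Type*} [Group G] (s : ℕ → G) (T : Tabs) (k b : ℕ) (hC : T.Cert)
    (hK : T.K = k + 1) (hinv : ∀ l < T.K, T.inv l = l)
    (hsubs : T.subs = (List.range k).map (fun i => [i]))
    (hs : ∀ i, s i * s i = 1) (hrel : ∀ w ∈ T.rels1, ew s w = 1)
    (hprev : Finite (L s k) ∧ Nat.card (L s k) ≤ b) :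
    Finite (L s (k + 1)) ∧ Nat.card (L s (k + 1)) ≤ T.N * b := by
  have := hprev.1
  obtain ⟨h1, h2⟩ := Cfsg.Agent.Lib.Helper19.TCU.tc_step_upper s T k
    (checked_of_cert hC k hK hinv hsubs) hs hrel
  exact ⟨h1, le_trans h2 (Nat.mul_le_mul_left _ hprev.2)⟩

theorem chain_zero {G : Type*} [Group G] (s : ℕ → G) :
    Finite (L s 0) ∧ Nat.card (L s 0) ≤ 1 := by
  rw [L_zero]
  exact ⟨inferInstance, by rw [Subgroup.card_bot]⟩

section final

variable {α : Type} [DecidableEq α] (edges : List (α × ℕ × α)) (extra : List (FreeGroup α))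
  {gens : List α}

/-- Order of a group from the index and the order of a subgroup. -/
theorem card_le_of_index {G : Type*} [Group G] (H : Subgroup G) (n b : ℕ) (hidx : H.index = n)
    (hn : 0 < n) (hfin : Finite H) (hH : Nat.card H ≤ b) : Finite G ∧ Nat.card G ≤ n * b := by
  have hc := Subgroup.card_mul_index H
  rw [hidx] at hc
  have hpos : 0 < Nat.card H := Nat.card_pos
  have h1 : Nat.card G ≠ 0 := by
    rw [← hc]
    exact Nat.mul_ne_zero hpos.ne' hn.ne'
  refine ⟨Nat.finite_of_card_ne_zero h1, ?_⟩
  rw [← hc, Nat.mul_comm]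
  exact Nat.mul_le_mul_left n hH

/-- The presented group is simple of order `B` as soon as its order is at most `B` and the
permutation group on the final names of the certificate is simple of order at least `B`. -/
theorem pres_simple (T : Tabs) (hP : T.P1)
    (hK : T.K = gens.length) (hnd : gens.Nodup) (hall : ∀ x : α, x ∈ gens)
    (hinv : ∀ l < T.K, T.inv l = l)
    (hrels : T.rels1 = coxW edges gens ++ extra.map (wordOf gens))
    (B : ℕ)
    (hupper : Finite (CoxPresented α edges extra) ∧ Nat.card (CoxPresented α edges extra) ≤ B)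
    (hlower : B ≤ Nat.card (L (sigma hP) T.K))
    (hsimple : Nat.card (L (sigma hP) T.K) = B → IsSimpleGroup (L (sigma hP) T.K)) :
    IsSimpleGroup (CoxPresented α edges extra) ∧ Nat.card (CoxPresented α edges extra) = B := by
  obtain ⟨φ, hφ⟩ := cox_hom edges extra T hP hK hnd hall hinv hrels
  obtain ⟨hfin, hle⟩ := hupper
  have hrange : φ.range = L (sigma hP) T.K := by
    rw [MonoidHom.range_eq_map, ← pgen_top edges extra hall]
    unfold L
    rw [MonoidHom.map_closure, Set.image_image, hK]
    congr 1
    ext y
    constructor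
    · rintro ⟨l, hl, rfl⟩
      exact ⟨l, hl, (hφ l).symm⟩
    · rintro ⟨l, hl, rfl⟩
      exact ⟨l, hl, hφ l⟩
  have hsurj : Function.Surjective φ.rangeRestrict := φ.rangeRestrict_surjective
  have hge : B ≤ Nat.card φ.range := by rw [hrange]; exact hlower
  have hle2 : Nat.card φ.range ≤ Nat.card (CoxPresented α edges extra) :=
    Nat.card_le_card_of_surjective _ hsurj
  have hcr : Nat.card φ.range = B := le_antisymm (le_trans hle2 hle) hge
  have hbij : Function.Bijective φ.rangeRestrict :=
    hsurj.bijective_of_nat_card_le (by rw [hcr]; exact hle)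
  let e : CoxPresented α edges extra ≃* φ.range := MulEquiv.ofBijective φ.rangeRestrict hbij
  have hcard : Nat.card (CoxPresented α edges extra) = B := by
    rw [Nat.card_congr e.toEquiv, hcr]
  let e' : CoxPresented α edges extra ≃* L (sigma hP) T.K :=
    e.trans (MulEquiv.subgroupCongr hrange)
  have := hsimple (by rw [← hrange]; exact hcr)
  exact ⟨e'.isSimpleGroup, hcard⟩

end final

end Cfsg.Agent.Lib.Helper56.TC
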